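import Cfsg.Agent.SmallBlock.Five.Orbits
import Cfsg.Agent.AbelianDefect.RankTwo
import Cfsg.Agent.AbelianDefect.Root
import Cfsg.Agent.InertialQuotient.Setup
import Cfsg.Agent.S4698
import Cfsg.Agent.S4733

/-!
# Five characters and one Brauer character: a defect group of order eight is not abelian
-/

set_option autoImplicit false
set_option linter.unusedSectionVars false
set_option linter.style.haveILetI false

namespace CfsgLib.SmallBlock.Five

open Cfsg CfsgLib.BlockPairs CfsgLib.InertialQuotient CfsgLib.Star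
open CfsgLib.Blocks (Res)

universe u

variable {G : Type u} [Group G] [Fintype G] {M : Ideal AlgInt} [M.IsPrime]
  [Fact (Nat.Prime 2)] [CharP (Res M) 2] [IsAlgClosed (Res M)]
  {B : Set (IrrCharacter G)} {P : Subgroup G} {eP : GA (Res M) G}

/-- Below a nontrivial element of an abelian defect group of order eight the rank is at most
three. -/
theorem rk_le_three (hM : Cfsg.IsPModular 2 M) (hB : Cfsg.IsPBlock M B)
    (hmax : IsMaxPair 2 ⊤ (gblk M B) P eP) (hab : P ≤ Subgroup.centralizer (P : Set G))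
    (hP : Nat.card P = 8) (w : P) (hw : w ≠ 1) :
    rk 2 P eP (Subgroup.zpowers (w : G)) ≤ 3 := by
  classical
  have hwP : Subgroup.zpowers (w : G) ≤ P := Subgroup.zpowers_le.2 w.2
  obtain ⟨b, e, hb, hbe, hmax', -, -⟩ := exists_local hB hmax hab hM hwP
  rw [rk, ← hbe, rkE_sblk hb]
  let C := Subgroup.centralizer ((Subgroup.zpowers (w : G) : Subgroup G) : Set G)
  haveI := Fintype.ofFinite C
  have hPC : P ≤ C := le_centralizer_of_le hab hwP
  have hD₀ : Cfsg.IsDefectGroup 2 M b (P.subgroupOf C) :=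
    (isDefectGroup_gblk_iff hb _).2 (hmax'.isDefectGrp (isBlock_gblk hb)).1
  set Q := (Subgroup.zpowers (w : G)).subgroupOf C with hQdef
  have hQc : Q ≤ Subgroup.center C := fun x hx => Subgroup.mem_center_iff.2 fun g => Subtype.ext
    (Subgroup.mem_centralizer_iff.1 g.2 (x : G) (Subgroup.mem_subgroupOf.1 hx)).symm
  haveI : Q.Normal := ⟨fun x hx g => by
    have := Subgroup.mem_center_iff.1 (hQc hx) g
    rwa [this, mul_inv_cancel_right]⟩
  have hQp : IsPGroup 2 Q := by
    refine IsPGroup.to_le (H := Q) (K := P.subgroupOf C) ?_ (fun x hx => hwP hx)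
    exact CfsgLib.Blocks.IsDefectGroup.isPGroup hD₀
  haveI := Fintype.ofFinite (C ⧸ Q)
  obtain ⟨Bq, hBq, himg, -, D, hD, hQD, hDq⟩ :=
    AbelianDefect.exists_quotient_block Q hQp hQc hM hb
  have hD8 : Nat.card D = 8 := by
    rw [CfsgLib.Blocks.card_defectGroup hM hb hD, ← CfsgLib.Blocks.card_defectGroup hM hb hD₀,
      Nat.card_congr (Subgroup.subgroupOfEquivOfLe hPC).toEquiv, hP]
  have hQ2 : 1 < Nat.card Q := by
    rw [Nat.card_congr (Subgroup.subgroupOfEquivOfLe (hwP.trans hPC)).toEquiv, Nat.card_zpowers]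
    exact lt_of_le_of_ne (orderOf_pos (w : G)) fun h => hw (Subtype.ext (orderOf_eq_one_iff.1 h.symm))
  have hmap : Nat.card Q * Nat.card (D.map (QuotientGroup.mk' Q)) = 8 := by
    let f := (QuotientGroup.mk' Q).comp D.subtype
    have hr : f.range = D.map (QuotientGroup.mk' Q) := by
      rw [MonoidHom.range_comp, D.range_subtype]
    have hk : f.ker = Q.subgroupOf D := by
      rw [← MonoidHom.comap_ker, QuotientGroup.ker_mk']; rfl
    rw [← hr, ← Subgroup.index_ker f, hk,
      ← Nat.card_congr (Subgroup.subgroupOfEquivOfLe hQD).toEquiv, Subgroup.card_mul_index, hD8]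
  rw [CfsgLib.Blocks.card_defectGroup hM hBq hDq] at hmap
  set d := Cfsg.blockDefect 2 Bq with hd
  have hd4 : 2 ^ d ≤ 4 := by nlinarith [Nat.two_pow_pos d]
  have hd2 : d ≤ 2 := (Nat.pow_le_pow_iff_right (le_refl 2)).1 (show 2 ^ d ≤ 2 ^ 2 from hd4)
  have hcard := ((Cfsg.Agent.S4698.result 2 M hM Bq hBq d rfl).1 hd2).trans hd4
  have hrank := AbelianDefect.blockRank_le_quotient Q hQp hQc hM hb himg
  obtain ⟨hle, h0, heq⟩ := Cfsg.Agent.S4733.result 2 M hM Bq hBq
  rw [hd] at hd4
  by_cases hz : Cfsg.blockDefect 2 Bq = 0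
  · have := h0.1 hz
    omega
  · have : Nat.card Bq ≠ Cfsg.blockRank 2 Bq := fun h => hz (heq.2 h)
    omega

/-- With one Brauer character and an abelian defect group of order eight there are not five
characters. -/
theorem not_five_of_abelian (hM : Cfsg.IsPModular 2 M) (hB : Cfsg.IsPBlock M B)
    (hmax : IsMaxPair 2 ⊤ (gblk M B) P eP) (hab : P ≤ Subgroup.centralizer (P : Set G))
    (hP : Nat.card P = 8) (hl : Cfsg.blockRank 2 B = 1) (hk : Nat.card B = 5) : False := by
  classical
  set T := stab ⊤ P eP with hT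
  have hTP : ∀ t ∈ T, ∀ w ∈ P, t * w * t⁻¹ ∈ P := fun t ht w hw =>
    (Subgroup.mem_normalizer_iff.1 (stab_le_normalizer ht) w).1 hw
  have hodd : ∀ w ∈ P, ocard T w % 2 = 1 := by
    intro w hw
    have hd := ocard_dvd_index (T := T) (w := w)
      (N := (Subgroup.centralizer (P : Set G)).subgroupOf T) fun t ht => by
        rw [Subgroup.mem_subgroupOf] at ht
        rw [← Subgroup.mem_centralizer_iff.1 ht w hw, mul_inv_cancel_right]
    rcases Nat.mod_two_eq_zero_or_one (ocard T w) with h | h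
    · exact absurd ((Nat.dvd_of_mod_eq_zero h).trans hd) (not_dvd_inertial hB hmax hab)
    · exact h
  have hfixrk : ∀ w : P, (∀ t ∈ T, t * (w : G) * t⁻¹ = w) →
      (rk 2 P eP (Subgroup.zpowers (w : G)) : ℂ) / (ocard T (w : G) : ℂ) = 1 := fun w hw => by
    rw [← blockRank_eq_rk hM hB hmax hab w.2 hw, hl, ocard_of_fixed hw]
    norm_num
  have h1fix : ∀ t ∈ T, t * ((1 : P) : G) * t⁻¹ = ((1 : P) : G) := fun t _ => by simp
  have hsum := card_eq_sum (P := P) (eP := eP) hB hmax hab hM
  rw [hk] at hsum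
  rcases orbit_shapes hP T hTP hodd with hall | ⟨f, hf, hffix, h3⟩ | h7
  · rw [Finset.sum_congr rfl fun w _ => hfixrk w fun t ht => hall t ht w, Finset.sum_const,
      Finset.card_univ, ← Nat.card_eq_fintype_card, hP] at hsum
    norm_num at hsum
  · set S := ((Finset.univ : Finset P).erase 1).erase f
    have hfm : f ∈ (Finset.univ : Finset P).erase 1 := Finset.mem_erase.2 ⟨hf, Finset.mem_univ _⟩
    have hsplit : ∀ φ : P → ℂ, ∑ w, φ w = φ 1 + (φ f + ∑ w ∈ S, φ w) := fun φ => by
      rw [← Finset.add_sum_erase _ _ (Finset.mem_univ (1 : P)), ← Finset.add_sum_erase _ _ hfm]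
    have hterm : ∀ w ∈ S, ocard T (w : G) = 3 := fun w hw =>
      h3 w (Finset.ne_of_mem_erase (Finset.mem_of_mem_erase hw)) (Finset.ne_of_mem_erase hw)
    set r : P → ℤ := fun w => (rk 2 P eP (Subgroup.zpowers (w : G)) : ℤ) with hr
    rw [hsplit, hfixrk 1 h1fix, hfixrk f hffix, Finset.sum_congr rfl fun w hw => by
      rw [hterm w hw], ← Finset.sum_div] at hsum
    have h9 : ∑ w ∈ S, r w = 9 := by
      refine Int.cast_injective (α := ℂ) ?_
      push_cast [hr]
      push_cast at hsum
      linear_combination (-3 : ℂ) * hsum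
    obtain ⟨l, hl1, hlT, hlval⟩ := exists_invariant_sign hB hmax hab hf hffix
    have he : ∀ w, ∃ ε : ℤ, (ε = 1 ∨ ε = -1) ∧ (l w : ℂ) = ε := fun w => by
      rcases hlval w with h | h
      · exact ⟨1, Or.inl rfl, by simp [h]⟩
      · exact ⟨-1, Or.inr rfl, by simp [h]⟩
    choose ε hε hlε using he
    have hz := sum_lext_eq_zero hB hmax hab hM hlT hl1
    simp only [mul_div_assoc] at hz
    rw [hsplit, hfixrk 1 h1fix, hfixrk f hffix, Finset.sum_congr rfl fun w hw => by
      rw [hterm w hw, ← mul_div_assoc], ← Finset.sum_div] at hz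
    have hz' : ∑ w ∈ S, ε w * r w = -3 * (1 + ε f) := by
      refine Int.cast_injective (α := ℂ) ?_
      simp only [map_one, Units.val_one, mul_one, hlε] at hz
      push_cast [hr]
      push_cast at hz
      linear_combination (3 : ℂ) * hz
    have h2 : (2 : ℤ) ∣ ∑ w ∈ S, (r w - ε w * r w) := Finset.dvd_sum fun w _ => by
      rcases hε w with h | h <;> rw [h] <;> simp [← two_mul]
    rw [Finset.sum_sub_distrib, h9, hz'] at h2
    rcases hε f with h | h <;> rw [h] at h2 <;> omega
  · rw [← Finset.add_sum_erase _ _ (Finset.mem_univ (1 : P)), hfixrk 1 h1fix,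
      Finset.sum_congr rfl fun w hw => by rw [h7 w (Finset.ne_of_mem_erase hw)],
      ← Finset.sum_div] at hsum
    have h28 : ∑ w ∈ (Finset.univ : Finset P).erase 1,
        rk 2 P eP (Subgroup.zpowers (w : G)) = 28 := by
      refine Nat.cast_injective (R := ℂ) ?_
      push_cast
      push_cast at hsum
      linear_combination (-7 : ℂ) * hsum
    have hle := Finset.sum_le_card_nsmul ((Finset.univ : Finset P).erase 1)
      (fun w => rk 2 P eP (Subgroup.zpowers (w : G))) 3
      (fun w hw => rk_le_three hM hB hmax hab hP w (Finset.ne_of_mem_erase hw))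
    rw [h28, Finset.card_erase_of_mem (Finset.mem_univ _), Finset.card_univ,
      ← Nat.card_eq_fintype_card, hP] at hle
    norm_num at hle

end CfsgLib.SmallBlock.Five
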