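import Cfsg.Agent.SmallBlock.Five.ThreeGen

/-!
# A local symmetric algebra with at most five traces has dimension at most ten
-/

set_option autoImplicit false
set_option linter.unusedSectionVars false
set_option linter.style.haveILetI false

namespace CfsgLib.SmallBlock.Five

variable {k R : Type*} [Field k] [IsAlgClosed k] [Ring R] [Algebra k R] [FiniteDimensional k R]

theorem finrank_span_le_of_le {n : ℕ} {f : Fin n → R} {V W : Submodule k R}
    (h : V ≤ Submodule.span k (Set.range f) ⊔ W) :
    Module.finrank k V ≤ n + Module.finrank k W := by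
  have h1 := Submodule.finrank_mono h
  have h2 := Submodule.finrank_add_le_finrank_add_finrank (Submodule.span k (Set.range f)) W
  have h3 := finrank_range_le_card (R := k) f
  rw [Fintype.card_fin] at h3
  simp only [Set.finrank] at h3
  omega

/-- The power after which a nilpotent subspace vanishes. -/
theorem exists_top_power {N : Submodule k R} (hN : N * N ≤ N) (hnil : ∀ x ∈ N, IsNilpotent x)
    (hN0 : N ≠ ⊥) : ∃ m, 1 ≤ m ∧ N ^ (m + 1) = ⊥ ∧ N ^ m ≠ ⊥ := by
  classical
  have hstep : ∀ j, N ^ (j + 1) ≠ ⊥ → N ^ (j + 2) < N ^ (j + 1) := by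
    intro j hj
    rw [pow_succ N (j + 1)]
    refine CfsgLib.BlocksLocal.mul_lt_of_nilpotent hN hnil ?_ hj
    rw [pow_succ N j, mul_assoc]
    exact mul_le_mul_right hN _
  have hex : ∃ j, N ^ (j + 1) = ⊥ := by
    by_contra! h
    have hdec : ∀ j, j + Module.finrank k ↥(N ^ (j + 1)) ≤ Module.finrank k N := by
      intro j
      induction j with
      | zero => rw [zero_add, zero_add, pow_one]
      | succ j ih =>
        have := Submodule.finrank_lt_finrank_of_lt (hstep j (h j))
        rw [show j + 1 + 1 = j + 2 from rfl]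
        omega
    have := hdec (Module.finrank k N + 1)
    omega
  refine ⟨Nat.find hex, ?_, Nat.find_spec hex, ?_⟩
  · rw [Nat.one_le_iff_ne_zero]
    intro h0
    have := Nat.find_spec hex
    rw [h0, zero_add, pow_one] at this
    exact hN0 this
  · intro h0
    obtain ⟨j, hj⟩ : ∃ j, Nat.find hex = j + 1 := ⟨Nat.find hex - 1, by
      have : Nat.find hex ≠ 0 := fun hz => by
        have := Nat.find_spec hex
        rw [hz, zero_add, pow_one] at this
        exact hN0 this
      omega⟩
    rw [hj] at h0
    exact Nat.find_min hex (by omega : j < Nat.find hex) h0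

/-- A local algebra with a symmetric form in which the commutators have codimension at most five
has dimension at most ten. -/
theorem finrank_le_ten {A N T : Submodule k R} (a : R) (hA : A = Submodule.span k {a} ⊔ N)
    (haN : a ∉ N) (hN : N * N ≤ N) (hnil : ∀ x ∈ N, IsNilpotent x)
    (hax : ∀ x ∈ N, x * a = x) (lam : R →ₗ[k] k)
    (hlam : ∀ x y, lam (x * y) = lam (y * x)) (hnd : ∀ x ∈ A, (∀ y ∈ A, lam (x * y) = 0) → x = 0)
    (hT : T = Submodule.span k {z | ∃ x ∈ N, ∃ y ∈ N, z = x * y - y * x})
    (hdim : Module.finrank k A ≤ Module.finrank k T + 5) : Module.finrank k A ≤ 10 := by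
  classical
  have hTN : T ≤ N * N := hT ▸ Submodule.span_le.2 (by
    rintro _ ⟨x, hx, y, hy, rfl⟩
    exact sub_mem (Submodule.mul_mem_mul hx hy) (Submodule.mul_mem_mul hy hx))
  have hTle := Submodule.finrank_mono hTN
  have hAle : Module.finrank k A ≤ Module.finrank k N + 1 := by
    have h1 := Submodule.finrank_add_le_finrank_add_finrank (Submodule.span k {a}) N
    have h2 := finrank_span_singleton (K := k) (fun h0 : a = 0 => haN (h0 ▸ zero_mem N))
    rw [← hA] at h1
    omega
  have hAN : Module.finrank k N < Module.finrank k A := by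
    rw [hA, sup_comm]
    exact finrank_lt_sup_span haN
  by_cases hN0 : N = ⊥
  · rw [hN0, finrank_bot] at hAle; omega
  obtain ⟨m, hm1, htop, hne⟩ := exists_top_power hN hnil hN0
  have h : IsTraceData N lam m := by
    refine ⟨hN, hlam, htop, fun z hz hlz => ?_, hne⟩
    have hle : ∀ j, 1 ≤ j → N ^ j ≤ N := by
      intro j hj
      induction j, hj using Nat.le_induction with
      | base => rw [pow_one]
      | succ j _ ih => rw [pow_succ]; exact (mul_le_mul' ih le_rfl).trans hN
    refine hnd z (hA ▸ Submodule.mem_sup_right (hle m hm1 hz)) fun y hy => ?_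
    rw [hA] at hy
    obtain ⟨u, hu, n, hn, rfl⟩ := Submodule.mem_sup.1 hy
    obtain ⟨r, rfl⟩ := Submodule.mem_span_singleton.1 hu
    have hzn : z * n = 0 := by
      have := mul_mem_pow hz (mem_pow_one hn)
      rwa [htop, Submodule.mem_bot] at this
    rw [mul_add, mul_smul_comm, hax z (hle m hm1 hz), hzn, add_zero, map_smul, hlz, smul_zero]
  have hT0 : (∀ x ∈ N, ∀ y ∈ N, x * y = y * x) → Module.finrank k A ≤ 10 := fun hcomm => by
    have : T = ⊥ := hT ▸ Submodule.span_eq_bot.2 fun z ⟨x, hx, y, hy, hz⟩ => by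
      rw [hz, hcomm x hx y hy, sub_self]
    rw [this, finrank_bot] at hdim
    omega
  by_cases h1 : Module.finrank k N ≤ Module.finrank k ↥(N * N) + 1
  · obtain ⟨r, hr, hle⟩ := SmallBlock.exists_le_span_sup_one hN h1
    exact hT0 (CfsgLib.BlocksLocal.commute_of_le_span_sup hN hnil hr hle)
  obtain ⟨s, hs, hs0⟩ := h.exists_top
  obtain ⟨hTN', hlT, -⟩ := comm_facts h hT
  by_cases hm : m = 1
  · subst hm
    refine hT0 fun x hx y hy => ?_
    have e : ∀ {u v : R}, u ∈ N → v ∈ N → u * v = 0 := fun hu hv =>
      h.eq_zero (i := 2) (by norm_num) (mul_mem_pow (mem_pow_one hu) (mem_pow_one hv))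
    rw [e hx hy, e hy hx]
  have hsT : s ∉ T := fun h' => hs0 (hlT s h')
  have hsN2 : s ∈ N * N := by rw [← pow_two]; exact h.pow_le (by omega) (by omega) hs
  have hTs := finrank_lt_sup_span hsT
  have hTsN : T ⊔ Submodule.span k {s} ≤ N * N :=
    sup_le hTN ((Submodule.span_singleton_le_iff_mem _ _).2 hsN2)
  have hTs' := Submodule.finrank_mono hTsN
  by_cases h2 : Module.finrank k N ≤ Module.finrank k ↥(N * N) + 2
  · -- two generators
    obtain ⟨x, hx, y, hy, hgen⟩ := SmallBlock.exists_le_span_sup_two hN h2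
    have hm4 : m ≤ 4 := by
      by_contra hm4
      exact two_gen_false h (by omega) hT hx hy hgen (by omega) (by omega)
    have hS : Submodule.span k {x} ⊔ Submodule.span k {y} ≤ N :=
      sup_le ((Submodule.span_singleton_le_iff_mem x N).2 hx)
        ((Submodule.span_singleton_le_iff_mem y N).2 hy)
    have hTc : T ≤ Submodule.span k {x * y - y * x} ⊔ N ^ 3 :=
      (comm_mem_of_gen h.mul_le hS hgen (fun u hu v hv => span_pair_comm hu hv) hT).trans
        (sup_le_sup_left comm2_le_pow_three _)
    have hs4 : Module.finrank k ↥(N ^ m) ≤ 1 := by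
      have := Submodule.finrank_mono (h.pow_top_le hs hs0)
      rwa [finrank_span_singleton fun h' => hs0 (by rw [h', map_zero])] at this
    by_cases hm2 : m = 2
    · subst hm2
      rw [pow_two] at hs4
      omega
    have hs3 : s ∈ N ^ 3 := h.pow_le (by omega) (by omega) hs
    obtain ⟨w, hw, hwle⟩ := SmallBlock.exists_le_span_sup_one hTsN (by omega)
    have hN2 : N * N ≤ Submodule.span k (Set.range ![x * y - y * x, w]) ⊔ N ^ 3 := by
      refine hwle.trans (sup_le ?_ (sup_le (hTc.trans ?_) ?_))
      · exact ((Submodule.span_singleton_le_iff_mem _ _).2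
          (Submodule.subset_span (Set.mem_range_self (f := ![x * y - y * x, w]) 1))).trans le_sup_left
      · exact sup_le_sup_right ((Submodule.span_singleton_le_iff_mem _ _).2
          (Submodule.subset_span (Set.mem_range_self (f := ![x * y - y * x, w]) 0))) _
      · exact ((Submodule.span_singleton_le_iff_mem _ _).2 hs3).trans le_sup_right
    have h4 : Module.finrank k ↥(N ^ 4) ≤ 1 := by
      rcases (by omega : m = 3 ∨ m = 4) with rfl | rfl
      · rw [h.top, finrank_bot]; omega
      · exact hs4
    have hN3 : N ^ 3 ≤ Submodule.span k (Set.range ![x * (x * y - y * x), x * w,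
        y * (x * y - y * x), y * w]) ⊔ N ^ 4 := by
      rw [pow_succ' N 2, pow_two]
      refine Submodule.mul_le.2 fun u hu z hz => ?_
      obtain ⟨z₁, hz₁, z₂, hz₂, rfl⟩ := Submodule.mem_sup.1 (hN2 hz)
      obtain ⟨c, rfl⟩ := (Submodule.mem_span_range_iff_exists_fun k).1 hz₁
      obtain ⟨u₁, hu₁, u₂, hu₂, hue⟩ := Submodule.mem_sup.1 (hgen hu)
      obtain ⟨p, hp, q, hq, hu₁'⟩ := Submodule.mem_sup.1 hu₁
      obtain ⟨α, rfl⟩ := Submodule.mem_span_singleton.1 hp
      obtain ⟨β, rfl⟩ := Submodule.mem_span_singleton.1 hq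
      subst hu₁' hue
      simp only [Fin.sum_univ_two, Matrix.cons_val]
      rw [show (α • x + β • y + u₂) * (c 0 • (x * y - y * x) + c 1 • w + z₂) =
        ((α * c 0) • (x * (x * y - y * x)) + (α * c 1) • (x * w) +
          (β * c 0) • (y * (x * y - y * x)) + (β * c 1) • (y * w)) +
        (u₂ * (c 0 • (x * y - y * x) + c 1 • w) + (α • x + β • y + u₂) * z₂) by
        simp only [add_mul, mul_add, smul_mul_assoc, mul_smul_comm, smul_smul]; module]
      refine Submodule.add_mem_sup ?_ (add_mem ?_ ?_)
      · refine (Submodule.mem_span_range_iff_exists_fun k).2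
          ⟨![α * c 0, α * c 1, β * c 0, β * c 1], ?_⟩
        simp only [Fin.sum_univ_four, Matrix.cons_val]
      · exact mul_mem_pow (i := 2) (j := 2) (by rw [pow_two]; exact hu₂) (by
          rw [pow_two]; exact add_mem (Submodule.smul_mem _ _ (sub_mem (Submodule.mul_mem_mul hx hy)
            (Submodule.mul_mem_mul hy hx))) (Submodule.smul_mem _ _ hw))
      · exact mul_mem_pow (i := 1) (j := 3) (mem_pow_one hu) hz₂
    have e2 := finrank_span_le_of_le hN2
    have e3 := finrank_span_le_of_le hN3
    omega
  -- three generators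
  have hn3 : Module.finrank k N ≤ Module.finrank k ↥(N * N) + 3 := by omega
  obtain ⟨x, hx, hxN⟩ : ∃ x ∈ N, x ∉ N * N := SetLike.not_le_iff_exists.1 fun hle => by
    have := Submodule.finrank_mono hle
    omega
  have hW : N * N ⊔ Submodule.span k {x} ≤ N :=
    sup_le hN ((Submodule.span_singleton_le_iff_mem _ _).2 hx)
  have := finrank_lt_sup_span hxN
  obtain ⟨y, hy, z, hz, hgen⟩ := SmallBlock.exists_le_span_sup_two hW (by omega)
  have hgen' : N ≤ Submodule.span k {x, y, z} ⊔ N * N := hgen.trans (sup_le (sup_le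
    ((Submodule.span_mono (by simp)).trans le_sup_left)
    ((Submodule.span_mono (by simp)).trans le_sup_left))
    (sup_le le_sup_right ((Submodule.span_mono (by simp)).trans le_sup_left)))
  have hm3 : m ≤ 3 := by
    by_contra hm3
    exact three_gen_false h (by omega) hT hx hy hz hgen' (by omega) (by omega)
  have hS : Submodule.span k {x, y, z} ≤ N := Submodule.span_le.2 (by
    rintro w (rfl | rfl | rfl) <;> assumption)
  have hTc : T ≤ Submodule.span k (Set.range ![x * y - y * x, x * z - z * x, y * z - z * y]) ⊔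
      N ^ 3 := by
    refine (comm_mem_of_gen h.mul_le hS hgen' (fun u hu v hv => ?_) hT).trans
      (sup_le_sup_left comm2_le_pow_three _)
    obtain ⟨a, u', hu', rfl⟩ := Submodule.mem_span_insert.1 hu
    obtain ⟨b, c, rfl⟩ := Submodule.mem_span_pair.1 hu'
    obtain ⟨a', v', hv', rfl⟩ := Submodule.mem_span_insert.1 hv
    obtain ⟨b', c', rfl⟩ := Submodule.mem_span_pair.1 hv'
    refine (Submodule.mem_span_range_iff_exists_fun k).2
      ⟨![a * b' - b * a', a * c' - c * a', b * c' - c * b'], ?_⟩
    simp only [Fin.sum_univ_three, Matrix.cons_val, add_mul, mul_add, smul_mul_assoc, mul_smul_comm,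
      smul_smul, smul_sub, sub_smul]
    module
  have h3 : Module.finrank k ↥(N ^ 3) ≤ 1 := by
    rcases (by omega : m = 2 ∨ m = 3) with rfl | rfl
    · rw [h.top, finrank_bot]; omega
    · have := Submodule.finrank_mono (h.pow_top_le hs hs0)
      rwa [finrank_span_singleton fun h' => hs0 (by rw [h', map_zero])] at this
  have := finrank_span_le_of_le hTc
  omega

end CfsgLib.SmallBlock.Five
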