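import Cfsg.Agent.SmallBlock.Counting
import Cfsg.Agent.SmallBlock.Five.LocalBound

/-!
# Blocks of rank one with five characters: the order of a defect group

The degrees are `n` times `1, 1, 1, 1, 1` or `2, 1, 1, 1, 1`, and the contribution of a character
of height zero shows that the order of a defect group is five or eight.
-/

set_option autoImplicit false
set_option linter.unusedSectionVars false
set_option linter.style.haveILetI false

namespace CfsgLib.SmallBlock.Five

open Cfsg CfsgLib.BlockPairs CfsgLib.Star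
open CfsgLib.Blocks (localRing red Res idemBar setIdemO isBlockUnion_of_isPBlock
  memLocalRing_blockCoeff)
open scoped ComplexConjugate

universe u

variable {p : ℕ} [hp : Fact p.Prime] {M : Ideal AlgInt} [M.IsPrime] {G : Type u} [Group G]
  [Fintype G] {B : Set (IrrCharacter G)}

theorem sq_sum_cases {ι : Type*} (s : Finset ι) (r : ι → ℕ) (hs : s.card = 5)
    (hr : ∀ i ∈ s, 0 < r i) (h10 : ∑ i ∈ s, r i ^ 2 ≤ 10) :
    (∀ i ∈ s, r i = 1) ∨
      ((∀ i ∈ s, r i = 1 ∨ r i = 2) ∧ ∑ i ∈ s, r i ^ 2 = 8 ∧ ∃ i ∈ s, r i = 1) := by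
  classical
  have hlow : ∀ t ⊆ s, t.card ≤ ∑ i ∈ t, r i ^ 2 := fun t ht =>
    (Finset.card_eq_sum_ones t).trans_le
      (Finset.sum_le_sum fun i hi => Nat.one_le_pow _ _ (hr i (ht hi)))
  by_cases hall : ∀ i ∈ s, r i = 1
  · exact Or.inl hall
  push Not at hall
  obtain ⟨j, hj, hj1⟩ := hall
  have h2 : 2 ≤ r j := by have := hr j hj; omega
  have hsplit := Finset.add_sum_erase s (fun i => r i ^ 2) hj
  have hcard : (s.erase j).card = 4 := by rw [Finset.card_erase_of_mem hj, hs]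
  have hle := hlow _ (Finset.erase_subset j s)
  have hj2 : r j = 2 := by
    have h3 : r j ≤ 2 := by
      by_contra h3
      have : 3 ^ 2 ≤ r j ^ 2 := Nat.pow_le_pow_left (by omega) 2
      omega
    omega
  have hrest : ∀ i ∈ s, i ≠ j → r i = 1 := by
    intro i hi hij
    by_contra h1
    have hi' : i ∈ s.erase j := Finset.mem_erase.2 ⟨hij, hi⟩
    have h3 := Finset.add_sum_erase (s.erase j) (fun l => r l ^ 2) hi'
    have h4 := hlow ((s.erase j).erase i)
      ((Finset.erase_subset _ _).trans (Finset.erase_subset _ _))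
    rw [Finset.card_erase_of_mem hi', hcard] at h4
    have : 2 ^ 2 ≤ r i ^ 2 := Nat.pow_le_pow_left (by have := hr i hi; omega) 2
    simp only [hj2] at hsplit h3
    omega
  refine Or.inr ⟨fun i hi => ?_, ?_, ?_⟩
  · by_cases hij : i = j
    · exact Or.inr (hij ▸ hj2)
    · exact Or.inl (hrest i hi hij)
  · rw [← hsplit, hj2, Finset.sum_congr rfl fun i hi => by
      rw [hrest i (Finset.mem_of_mem_erase hi) (Finset.ne_of_mem_erase hi)]]
    simp [hcard]
  · obtain ⟨i, hi⟩ : (s.erase j).Nonempty := Finset.card_pos.1 (by omega)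
    exact ⟨i, Finset.mem_of_mem_erase hi,
      hrest i (Finset.mem_of_mem_erase hi) (Finset.ne_of_mem_erase hi)⟩

open Classical in
/-- The degrees are common multiples of one or two. -/
theorem exists_degree_mul (hM : Cfsg.IsPModular p M) (hB : Cfsg.IsPBlock M B)
    (hl : Cfsg.blockRank p B = 1) (hk : Nat.card B = 5) :
    ∃ n : ℕ, ∃ r : IrrCharacter G → ℕ, 0 < n ∧
      (∀ χ ∈ B, Cfsg.charDegree (χ : G → ℂ) = n * r χ) ∧
      ((∀ χ ∈ B, r χ = 1) ∨ ((∀ χ ∈ B, r χ = 1 ∨ r χ = 2) ∧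
        ∑ χ ∈ B.toFinset, r χ ^ 2 = 8 ∧ ∃ χ ∈ B, r χ = 1)) := by
  haveI := CfsgLib.Blocks.charP_res hM
  haveI := BlockPairs.isAlgClosed_res hM
  haveI : Module.Finite (Res M) (GA (Res M) G) :=
    Module.Finite.of_basis (MonoidAlgebra.basis G (Res M))
  have hBu := isBlockUnion_of_isPBlock hB
  obtain ⟨χ₀, hχ₀⟩ := CfsgLib.Blocks.isPBlock_nonempty hB
  obtain ⟨s, hs⟩ := Star.exists_decomp (A := (⊤ : Subalgebra (Res M) (GA (Res M) G)))
    (j := gblk M B) trivial (isBlock_gblk hB).idem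
  have hs' := hs
  rw [CyclicDefect.gblk_eq_idemBar hB] at hs'
  choose! c hc using fun χ (h : χ ∈ B) => exists_regular_mul (p := p) hl hχ₀ h
  have heqv := BlocksLocal.eqv_of_regular_proportional (p := p) hBu
    (∑ χ ∈ B.toFinite.toFinset, c χ • BlocksLocal.classVec χ) (fun y hy => by
      refine Submodule.mem_span_singleton.2 ⟨(χ₀ : G → ℂ) y, ?_⟩
      rw [Finset.smul_sum]
      refine Finset.sum_congr rfl fun χ hχ => ?_
      rw [smul_smul, hc χ ((Set.Finite.mem_toFinset _).1 hχ) y hy, mul_comm]) hs'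
  have hne : s.Nonempty := by
    rw [Finset.nonempty_iff_ne_empty]
    intro h0
    exact (isBlock_gblk (M := M) hB).ne_zero (by rw [← hs.2.2, h0, Finset.sum_empty])
  let lam : GA (Res M) G →ₗ[Res M] Res M :=
    { toFun := fun x => x.coeff 1
      map_add' := fun x y => by simp
      map_smul' := fun r x => by simp }
  have hlam : ∀ x y, lam (x * y) = lam (y * x) := by
    intro x y
    show (x * y).coeff 1 = (y * x).coeff 1
    induction x using MonoidAlgebra.induction_linear with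
    | zero => simp
    | add a b ha hb => rw [add_mul, mul_add, MonoidAlgebra.coeff_add, MonoidAlgebra.coeff_add,
        Finsupp.add_apply, Finsupp.add_apply, ha, hb]
    | single g r =>
      rw [MonoidAlgebra.coeff_single_mul_apply, MonoidAlgebra.coeff_mul_single_apply, mul_one,
        one_mul, mul_comm]
  have hnd : ∀ x : GA (Res M) G, (∀ y, lam (x * y) = 0) → x = 0 := fun x h => ga_ext fun g => by
    have := h (MonoidAlgebra.single g⁻¹ 1)
    change (x * MonoidAlgebra.single g⁻¹ 1).coeff 1 = 0 at this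
    simpa [MonoidAlgebra.coeff_mul_single_apply] using this
  obtain ⟨a, A, N, hA, haN, hN, hnil, hax, hndA, hdim, hle, -⟩ := SmallBlock.exists_corner
    (fun x => (Subring.mem_center_iff.1 (idemBar M B hBu).2 x).symm) hs' hne heqv
    (BlocksLocal.classTrace (Res M) G) BlocksLocal.classTrace_comm BlocksLocal.ker_classTrace_le
    lam hlam hnd
  have h10 : Module.finrank (Res M) A ≤ 10 := finrank_le_ten a hA haN hN hnil hax lam hlam hndA rfl
    (by rwa [BlocksLocal.finrank_map_classTrace hBu, hk] at hle)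
  rw [BlocksLocal.finrank_blockAlgebra hBu] at hdim
  -- degrees are multiples of the number of idempotents
  have hdeg : ∀ χ ∈ B, ∃ r : ℕ, 0 < r ∧ Cfsg.charDegree (χ : G → ℂ) = s.card * r := by
    intro χ hχ
    obtain ⟨i, hi⟩ := hne
    have hcl := Characters.isClassFunction_of_isIrr χ.2
    obtain ⟨E, hE, hEz⟩ := exists_lift (M := M) i (hs.1 i hi).2.1
    have hEz1 := hEz 1 (conjA_one_left i)
    obtain ⟨r, hr, -⟩ := CyclicDefect.exists_rank (Characters.isCharacter_of_isIrr χ.2) hE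
    have hT : T M (χ : G → ℂ) 1 i = r := by
      rw [T_eq hcl hE hEz1, ← MonoidAlgebra.one_def, one_mul, hr]
    have h : (Cfsg.charDegree (χ : G → ℂ) : ℂ) = ((s.card * r : ℕ) : ℂ) := by
      rw [CfsgLib.Blocks.charDegree_cast, ← T_gblk hB hχ, ← hs.2.2,
        T_sum hcl 1 s (fun a => a) (fun a ha => (hs.1 a ha).2.1)
          (fun a ha b hb hab => hs.2.1 a ha b hb hab) (fun a _ => conjA_one_left a),
        Finset.sum_congr rfl (g := fun _ => T M (χ : G → ℂ) 1 i), Finset.sum_const, hT,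
        nsmul_eq_mul, Nat.cast_mul]
      intro a ha
      obtain ⟨x, -, y, -, hxy, hyx⟩ := heqv a ha i hi
      exact T_equiv hcl (hs.1 a ha).2.1 (hs.1 i hi).2.1 hxy hyx (conjA_one_left x) (conjA_one_left y)
    have h' : Cfsg.charDegree (χ : G → ℂ) = s.card * r := Nat.cast_injective h
    exact ⟨r, Nat.pos_of_ne_zero fun h0 => CfsgLib.Blocks.charDegree_ne_zero χ
      (by rw [h', h0, mul_zero]), h'⟩
  choose! r hr0 hr using hdeg
  refine ⟨s.card, r, hne.card_pos, hr, ?_⟩
  rw [finsum_mem_eq_toFinset_sum, Finset.sum_congr rfl fun ψ hψ => by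
    rw [hr ψ (Set.mem_toFinset.1 hψ), mul_pow], ← Finset.mul_sum] at hdim
  have hsum := Nat.eq_of_mul_eq_mul_left (pow_pos hne.card_pos 2) hdim
  have h5 : B.toFinset.card = 5 := by
    rw [Set.toFinset_card, ← Nat.card_eq_fintype_card, hk]
  rcases sq_sum_cases B.toFinset r h5 (fun χ hχ => hr0 χ (Set.mem_toFinset.1 hχ))
    (hsum.trans_le h10) with h | ⟨h1, h2, χ, hχ, h3⟩
  · exact Or.inl fun χ hχ => h χ (Set.mem_toFinset.2 hχ)
  · exact Or.inr ⟨fun ψ hψ => h1 ψ (Set.mem_toFinset.2 hψ), h2, χ, Set.mem_toFinset.1 hχ, h3⟩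

open Classical in
/-- The order of a defect group is five or eight. -/
theorem pow_defect_cases (hM : Cfsg.IsPModular p M) (hB : Cfsg.IsPBlock M B)
    (hl : Cfsg.blockRank p B = 1) (hk : Nat.card B = 5) :
    p ^ Cfsg.blockDefect p B = 5 ∨ p ^ Cfsg.blockDefect p B = 8 := by
  obtain ⟨n, r, hn0, hn, hcases⟩ := exists_degree_mul hM hB hl hk
  obtain ⟨χ₀, hχ₀, h0⟩ := Blocks.exists_height_zero (p := p) hM hB
  have hr0 : ∀ χ ∈ B, r χ ≠ 0 := fun χ hχ h => CfsgLib.Blocks.charDegree_ne_zero χ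
    (by rw [hn χ hχ, h, mul_zero])
  have hr0' : (r χ₀ : ℂ) ≠ 0 := Nat.cast_ne_zero.2 (hr0 χ₀ hχ₀)
  have hinner : ∀ χ ∈ B, (r χ₀ : ℂ) ^ 2 * BlockPairing.regInner p (χ : G → ℂ) χ =
      (r χ : ℂ) ^ 2 * BlockPairing.regInner p (χ₀ : G → ℂ) χ₀ := by
    intro χ hχ
    obtain ⟨c, hc⟩ := SmallBlock.exists_regular_mul (p := p) hl hχ₀ hχ
    have h1 := hc 1 (by rw [orderOf_one]; exact hp.out.not_dvd_one)
    rw [← CfsgLib.Blocks.charDegree_cast, ← CfsgLib.Blocks.charDegree_cast, hn χ hχ, hn χ₀ hχ₀,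
      Nat.cast_mul, Nat.cast_mul] at h1
    have hn0' : (n : ℂ) ≠ 0 := Nat.cast_ne_zero.2 hn0.ne'
    have hc' : (r χ₀ : ℂ) * c = r χ := mul_left_cancel₀ hn0' (by linear_combination -h1)
    simp only [BlockPairing.regInner, mul_left_comm _ (Nat.card G : ℂ)⁻¹, Finset.mul_sum]
    refine Finset.sum_congr rfl fun g _ => congrArg _ ?_
    split_ifs with hg
    · simp
    · have hg' : (r χ₀ : ℂ) * (χ : G → ℂ) g = r χ * (χ₀ : G → ℂ) g := by
        rw [hc g hg, ← hc', mul_assoc]
      have hg'' := congrArg conj hg'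
      simp only [map_mul, Complex.conj_natCast] at hg''
      linear_combination (r χ₀ : ℂ) * conj ((χ : G → ℂ) g) * hg' +
        (r χ : ℂ) * (χ₀ : G → ℂ) g * hg''
  set q := p ^ Cfsg.blockDefect p B with hq
  set c := CfsgLib.Contributions.contrib p B χ₀ χ₀ with hcdef
  have hc : (c : ℂ) = _ := CfsgLib.Contributions.cast_contrib hχ₀ χ₀
  rw [← hq] at hc
  have hsum : ((∑ χ ∈ B.toFinset, r χ ^ 2 : ℕ) : ℤ) * c = (q : ℤ) * (r χ₀ : ℤ) ^ 2 := by
    refine Int.cast_injective (α := ℂ) ?_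
    have h := congrArg (fun z : ℂ => (r χ₀ : ℂ) ^ 2 * z)
      (CfsgLib.Contributions.blockRank_eq_sum hM hB)
    simp only [hl, Nat.cast_one, mul_one, Finset.mul_sum] at h
    rw [Finset.sum_congr rfl fun χ hχ => hinner χ (Set.mem_toFinset.1 hχ), ← Finset.sum_mul] at h
    push_cast
    rw [hc]
    linear_combination (-(q : ℂ)) * h
  have hpc : ¬ (p : ℤ) ∣ c := by
    have h := CfsgLib.Contributions.not_dvd_of_height_zero hM hB hχ₀ hχ₀ h0
    rwa [h0, zero_add, pow_one] at h
  have hq0 : 0 < q := pow_pos hp.out.pos _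
  have hfac : ∀ {a : ℕ}, (q : ℤ) = (a : ℤ) * c → q = a := fun {a} h => by
    have hd : c.natAbs ∣ q := Int.dvd_natCast.1 (Dvd.intro_left (a : ℤ) h.symm)
    obtain ⟨j, -, hj⟩ := (Nat.dvd_prime_pow hp.out).1 hd
    have hj0 : j = 0 := by
      by_contra hj0
      refine hpc (Int.natCast_dvd.2 ?_)
      rw [hj]; exact dvd_pow_self p hj0
    rw [hj0, pow_zero] at hj
    rcases Int.natAbs_eq c with he | he <;> rw [hj] at he <;> rw [he] at h <;> omega
  rcases hcases with h1 | ⟨h12, h8, χ₁, hχ₁, h11⟩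
  · left
    refine hfac ?_
    rw [h1 χ₀ hχ₀, Finset.sum_congr rfl fun χ hχ => by rw [h1 χ (Set.mem_toFinset.1 hχ)]] at hsum
    simp only [one_pow, Finset.sum_const, smul_eq_mul, mul_one, Set.toFinset_card,
      ← Nat.card_eq_fintype_card, hk] at hsum
    linear_combination -hsum
  rw [h8] at hsum
  rcases h12 χ₀ hχ₀ with h | h
  · right
    refine hfac ?_
    rw [h] at hsum
    linear_combination -hsum
  · exfalso
    rw [h] at hsum
    have h2 : q = 2 := hfac (by push_cast at hsum ⊢; omega)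
    set c₁ := CfsgLib.Contributions.contrib p B χ₁ χ₁
    have hc₁ : (c₁ : ℂ) = _ := CfsgLib.Contributions.cast_contrib hχ₁ χ₁
    rw [← hq] at hc₁
    have h4 : (4 : ℤ) * c₁ = c := by
      refine Int.cast_injective (α := ℂ) ?_
      have := hinner χ₁ hχ₁
      rw [h, h11] at this
      push_cast at this ⊢
      rw [hc, hc₁]
      linear_combination (q : ℂ) * this
    rw [h2] at hsum
    push_cast at hsum
    omega

end CfsgLib.SmallBlock.Five
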