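import Cfsg.Agent.SmallBlock.Five.Generators

/-!
# Two generators whose squares are in the third power

Then the nonzero products alternate, and the commutators cannot fill the third power.
-/

set_option autoImplicit false
set_option linter.unusedSectionVars false

namespace CfsgLib.SmallBlock.Five

variable {k R : Type*} [Field k] [Ring R] [Algebra k R] [FiniteDimensional k R]
  {N : Submodule k R} {lam : R →ₗ[k] k} {m : ℕ}

theorem mul_pow_mul_comm (x y : R) (j : ℕ) : x * (y * x) ^ j = (x * y) ^ j * x := by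
  induction j with
  | zero => simp
  | succ j ih => rw [pow_succ, pow_succ, ← mul_assoc, ih]; simp only [mul_assoc]

theorem word_step {j : ℕ} {x y A B : R} (hA : A ∈ N ^ j) (hB : B ∈ N ^ j)
    (hgen : N ≤ Submodule.span k {x} ⊔ Submodule.span k {y} ⊔ N * N)
    (hj : N ^ j ≤ Submodule.span k {A, B} ⊔ N ^ (j + 1))
    (hAy : A * y ∈ N ^ (j + 2)) (hBx : B * x ∈ N ^ (j + 2)) :
    N ^ (j + 1) ≤ Submodule.span k {A * x, B * y} ⊔ N ^ (j + 2) := by
  rw [pow_succ]
  refine Submodule.mul_le.2 fun z hz w hw => ?_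
  obtain ⟨p, hp, r, hr, rfl⟩ := Submodule.mem_sup.1 (hj hz)
  obtain ⟨α, β, rfl⟩ := Submodule.mem_span_pair.1 hp
  obtain ⟨w₁, hw₁, n, hn, hwn⟩ := Submodule.mem_sup.1 (hgen hw)
  obtain ⟨u, hu, v, hv, hw₁'⟩ := Submodule.mem_sup.1 hw₁
  obtain ⟨γ, rfl⟩ := Submodule.mem_span_singleton.1 hu
  obtain ⟨δ, rfl⟩ := Submodule.mem_span_singleton.1 hv
  subst hw₁'
  rw [add_mul, show (α • A + β • B) * w = ((α * γ) • (A * x) + (β * δ) • (B * y)) +
      ((α * δ) • (A * y) + (β * γ) • (B * x) + (α • A + β • B) * n) by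
    rw [← hwn]
    simp only [add_mul, mul_add, smul_mul_assoc, mul_smul_comm, smul_smul, smul_add]
    module, add_assoc]
  refine Submodule.add_mem_sup (Submodule.mem_span_pair.2 ⟨_, _, rfl⟩)
    (add_mem (add_mem (add_mem (Submodule.smul_mem _ _ hAy) (Submodule.smul_mem _ _ hBx)) ?_) ?_)
  · exact mul_mem_pow (add_mem (Submodule.smul_mem _ α hA) (Submodule.smul_mem _ β hB))
      (by rw [pow_two]; exact hn)
  · rw [show j + 2 = j + 1 + 1 from rfl, pow_succ N (j + 1)]
    exact Submodule.mul_mem_mul hr hw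

variable {x y : R} (hx : x ∈ N) (hy : y ∈ N) (hxx : x * x ∈ N ^ 3) (hyy : y * y ∈ N ^ 3)
  (hgen : N ≤ Submodule.span k {x} ⊔ Submodule.span k {y} ⊔ N * N)

include hx hy hxx hyy hgen in
theorem pow_le_words (i : ℕ) :
    N ^ (2 * i + 2) ≤ Submodule.span k {(x * y) ^ (i + 1), (y * x) ^ (i + 1)} ⊔ N ^ (2 * i + 3) ∧
      N ^ (2 * i + 3) ≤ Submodule.span k {(x * y) ^ (i + 1) * x, (y * x) ^ (i + 1) * y} ⊔
        N ^ (2 * i + 4) := by
  have hxy : ∀ l, (x * y) ^ l ∈ N ^ (2 * l) := fun l => by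
    rw [pow_mul]; exact Submodule.pow_mem_pow _ (by rw [pow_two]; exact Submodule.mul_mem_mul hx hy) l
  have hyx : ∀ l, (y * x) ^ l ∈ N ^ (2 * l) := fun l => by
    rw [pow_mul]; exact Submodule.pow_mem_pow _ (by rw [pow_two]; exact Submodule.mul_mem_mul hy hx) l
  have hgen' : N ≤ Submodule.span k {y} ⊔ Submodule.span k {x} ⊔ N * N :=
    hgen.trans_eq (by rw [sup_comm (Submodule.span k {x})])
  have heven : ∀ l, N ^ (2 * l + 2) ≤
      Submodule.span k {(x * y) ^ (l + 1), (y * x) ^ (l + 1)} ⊔ N ^ (2 * l + 3) →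
      N ^ (2 * l + 3) ≤
        Submodule.span k {(x * y) ^ (l + 1) * x, (y * x) ^ (l + 1) * y} ⊔ N ^ (2 * l + 4) := by
    intro l hl
    refine word_step (hxy (l + 1)) (hyx (l + 1)) hgen hl ?_ ?_
    · rw [pow_succ (x * y), mul_assoc, mul_assoc, show 2 * l + 2 + 2 = 2 * l + (1 + 3) by omega]
      exact mul_mem_pow (hxy l) (mul_mem_pow (mem_pow_one hx) hyy)
    · rw [pow_succ (y * x), mul_assoc, mul_assoc, show 2 * l + 2 + 2 = 2 * l + (1 + 3) by omega]
      exact mul_mem_pow (hyx l) (mul_mem_pow (mem_pow_one hy) hxx)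
  have hodd : ∀ l, N ^ (2 * l + 3) ≤
      Submodule.span k {(x * y) ^ (l + 1) * x, (y * x) ^ (l + 1) * y} ⊔ N ^ (2 * l + 4) →
      N ^ (2 * (l + 1) + 2) ≤
        Submodule.span k {(x * y) ^ (l + 1 + 1), (y * x) ^ (l + 1 + 1)} ⊔
          N ^ (2 * (l + 1) + 3) := by
    intro l hl
    have := word_step (mul_mem_pow (hxy (l + 1)) (mem_pow_one hx))
      (mul_mem_pow (hyx (l + 1)) (mem_pow_one hy)) hgen' hl ?_ ?_
    · simpa only [mul_assoc, ← pow_succ] using this
    · rw [mul_assoc, show 2 * (l + 1) + 1 + 2 = 2 * (l + 1) + 3 by omega]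
      exact mul_mem_pow (hxy (l + 1)) hxx
    · rw [mul_assoc, show 2 * (l + 1) + 1 + 2 = 2 * (l + 1) + 3 by omega]
      exact mul_mem_pow (hyx (l + 1)) hyy
  induction i with
  | zero =>
    have h0 : N ^ (2 * 0 + 2) ≤
        Submodule.span k {(x * y) ^ (0 + 1), (y * x) ^ (0 + 1)} ⊔ N ^ (2 * 0 + 3) := by
      simp only [Nat.mul_zero, zero_add, pow_one, pow_two]
      refine Submodule.mul_le.2 fun z hz w hw => ?_
      obtain ⟨z₁, hz₁, n, hn, rfl⟩ := Submodule.mem_sup.1 (hgen hz)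
      obtain ⟨w₁, hw₁, n', hn', rfl⟩ := Submodule.mem_sup.1 (hgen hw)
      obtain ⟨u, hu, v, hv, rfl⟩ := Submodule.mem_sup.1 hz₁
      obtain ⟨α, rfl⟩ := Submodule.mem_span_singleton.1 hu
      obtain ⟨β, rfl⟩ := Submodule.mem_span_singleton.1 hv
      obtain ⟨u, hu, v, hv, rfl⟩ := Submodule.mem_sup.1 hw₁
      obtain ⟨γ, rfl⟩ := Submodule.mem_span_singleton.1 hu
      obtain ⟨δ, rfl⟩ := Submodule.mem_span_singleton.1 hv
      rw [show (α • x + β • y + n) * (γ • x + δ • y + n') =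
        ((α * δ) • (x * y) + (β * γ) • (y * x)) + ((α * γ) • (x * x) + (β * δ) • (y * y) +
          (α • x + β • y) * n' + n * (γ • x + δ • y + n')) by
        simp only [add_mul, mul_add, smul_mul_assoc, mul_smul_comm]
        module]
      refine Submodule.add_mem_sup (Submodule.mem_span_pair.2 ⟨_, _, rfl⟩) ?_
      refine add_mem (add_mem (add_mem (Submodule.smul_mem _ _ hxx) (Submodule.smul_mem _ _ hyy)) ?_) ?_
      · exact mul_mem_pow (i := 1) (j := 2) (mem_pow_one (add_mem (N.smul_mem α hx) (N.smul_mem β hy)))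
          (by rw [pow_two]; exact hn')
      · exact mul_mem_pow (i := 2) (j := 1) (by rw [pow_two]; exact hn) (mem_pow_one hw)
    exact ⟨h0, heven 0 h0⟩
  | succ l ih =>
    have h1 := hodd l ih.2
    exact ⟨h1, heven (l + 1) h1⟩

theorem comm_raise {l : ℕ} {z : R}
    (hzn : ∀ n ∈ N, z * n - n * z ∈ N ^ (l + 2)) :
    ∀ j, ∀ r ∈ N ^ (j + 1), z * r - r * z ∈ N ^ (l + j + 2) := by
  intro j
  induction j with
  | zero => simpa using hzn
  | succ j ih =>
    intro r hr
    rw [pow_succ] at hr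
    induction hr using Submodule.mul_induction_on' with
    | mem_mul_mem r hr n hn =>
      rw [show z * (r * n) - r * n * z = (z * r - r * z) * n + r * (z * n - n * z) by noncomm_ring]
      refine add_mem ?_ ?_
      · exact mul_mem_pow (i := l + j + 2) (j := 1) (ih r hr) (mem_pow_one hn)
      · have := mul_mem_pow hr (hzn n hn)
        rwa [show j + 1 + (l + 2) = l + (j + 1) + 2 by omega] at this
    | add u _ v _ hu hv =>
      rw [mul_add, add_mul, show z * u + z * v - (u * z + v * z) =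
        (z * u - u * z) + (z * v - v * z) by abel]
      exact add_mem hu hv

include hx hy hyy in
theorem coef_eq_zero (h : IsTraceData N lam m) {i : ℕ} (hm : m = 2 * (i + 2) + 2)
    (hτ : lam ((x * y) ^ (i + 3)) ≠ 0) {α γ : k}
    (hmem : α • (x * y * x) + γ • (y * x * y) ∈ N ^ 4) : α = 0 := by
  have hyx : (y * x) ^ i ∈ N ^ (2 * i) := by
    rw [pow_mul]; exact Submodule.pow_mem_pow _ (by rw [pow_two]; exact Submodule.mul_mem_mul hy hx) i
  have hr : (y * x) ^ (i + 1) * y ∈ N ^ (2 * (i + 1) + 1) := by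
    refine mul_mem_pow ?_ (mem_pow_one hy)
    rw [pow_mul]; exact Submodule.pow_mem_pow _ (by rw [pow_two]; exact Submodule.mul_mem_mul hy hx) _
  have h1 : x * y * x * ((y * x) ^ (i + 1) * y) = (x * y) ^ (i + 3) := by
    rw [mul_assoc (x * y), ← mul_assoc x _ y, mul_pow_mul_comm, mul_assoc _ x y, ← pow_succ,
      ← pow_succ']
  have h2 : y * x * y * ((y * x) ^ (i + 1) * y) = 0 := by
    rw [pow_succ', show y * x * y * (y * x * (y * x) ^ i * y) =
      y * x * (y * y) * (x * ((y * x) ^ i * y)) by noncomm_ring]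
    exact h.eq_zero (i := 2 + 3 + (1 + (2 * i + 1))) (by omega) (mul_mem_pow (mul_mem_pow
      (by rw [pow_two]; exact Submodule.mul_mem_mul hy hx) hyy)
      (mul_mem_pow (mem_pow_one hx) (mul_mem_pow hyx (mem_pow_one hy))))
  have h3 := h.eq_zero (i := 4 + (2 * (i + 1) + 1)) (by omega) (mul_mem_pow hmem hr)
  rw [add_mul, smul_mul_assoc, smul_mul_assoc, h1, h2, smul_zero, add_zero] at h3
  have := congrArg lam h3
  rw [map_smul, map_zero, smul_eq_mul] at this
  exact (mul_eq_zero.1 this).resolve_right hτ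

include hx hy hxx hyy hgen in
theorem alternating_false (h : IsTraceData N lam m) (hm : 5 ≤ m)
    (h3 : N ^ 3 ≤ comm2 N ⊔ N ^ m) : False := by
  have hxy : ∀ l, (x * y) ^ l ∈ N ^ (2 * l) := fun l => by
    rw [pow_mul]; exact Submodule.pow_mem_pow _ (by rw [pow_two]; exact Submodule.mul_mem_mul hx hy) l
  have hyx : ∀ l, (y * x) ^ l ∈ N ^ (2 * l) := fun l => by
    rw [pow_mul]; exact Submodule.pow_mem_pow _ (by rw [pow_two]; exact Submodule.mul_mem_mul hy hx) l
  obtain ⟨s, hs, hs0⟩ := h.exists_top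
  rcases Nat.even_or_odd' m with ⟨i, rfl | rfl⟩
  swap
  · obtain ⟨i, rfl⟩ : ∃ l, i = l + 1 := ⟨i - 1, by omega⟩
    obtain ⟨p, hp, r, hr, hpr⟩ :=
      Submodule.mem_sup.1 ((pow_le_words hx hy hxx hyy hgen i).2 hs)
    obtain ⟨α, β, rfl⟩ := Submodule.mem_span_pair.1 hp
    have hr0 : r = 0 := h.eq_zero (i := 2 * i + 4) (by omega) hr
    have e1 : lam ((x * y) ^ (i + 1) * x) = 0 := by
      rw [h.cyc, pow_succ', show x * (x * y * (x * y) ^ i) = x * x * (y * (x * y) ^ i) by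
        noncomm_ring, h.eq_zero (i := 3 + (1 + 2 * i)) (by omega)
          (mul_mem_pow hxx (mul_mem_pow (mem_pow_one hy) (hxy i))), map_zero]
    have e2 : lam ((y * x) ^ (i + 1) * y) = 0 := by
      rw [h.cyc, pow_succ', show y * (y * x * (y * x) ^ i) = y * y * (x * (y * x) ^ i) by
        noncomm_ring, h.eq_zero (i := 3 + (1 + 2 * i)) (by omega)
          (mul_mem_pow hyy (mul_mem_pow (mem_pow_one hx) (hyx i))), map_zero]
    exact hs0 (by rw [← hpr, hr0, add_zero, map_add, map_smul, map_smul, e1, e2]; simp)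
  obtain ⟨i, rfl⟩ : ∃ l, i = l + 3 := ⟨i - 3, by omega⟩
  have hcyc : lam ((y * x) ^ (i + 3)) = lam ((x * y) ^ (i + 3)) := by
    rw [pow_succ' (y * x), mul_assoc y x, h.cyc, mul_pow_mul_comm, mul_assoc, ← pow_succ]
  have hτ : lam ((x * y) ^ (i + 3)) ≠ 0 := by
    intro hτ
    obtain ⟨p, hp, r, hr, hpr⟩ := Submodule.mem_sup.1
      ((pow_le_words hx hy hxx hyy hgen (i + 2)).1 (by rwa [show 2 * (i + 2) + 2 = 2 * (i + 3) by omega]))
    obtain ⟨α, β, rfl⟩ := Submodule.mem_span_pair.1 hp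
    have hr0 : r = 0 := h.eq_zero (i := 2 * (i + 2) + 3) (by omega) hr
    exact hs0 (by
      rw [← hpr, hr0, add_zero, map_add, map_smul, map_smul, hcyc, hτ]; simp)
  obtain ⟨d, hd⟩ : ∃ d, d = x * y + y * x := ⟨_, rfl⟩
  have hd2 : d ∈ N ^ 2 := by
    rw [hd, pow_two]; exact add_mem (Submodule.mul_mem_mul hx hy) (Submodule.mul_mem_mul hy hx)
  have hdpow : ∀ l, d ^ l ∈ N ^ (2 * l) := fun l => by
    rw [pow_mul]; exact Submodule.pow_mem_pow _ hd2 l
  have hd1 : ∀ n ∈ N, d * n - n * d ∈ N ^ 4 := by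
    intro n hn
    obtain ⟨n₁, hn₁, q, hq, rfl⟩ := Submodule.mem_sup.1 (hgen hn)
    obtain ⟨u, hu, v, hv, rfl⟩ := Submodule.mem_sup.1 hn₁
    obtain ⟨α, rfl⟩ := Submodule.mem_span_singleton.1 hu
    obtain ⟨β, rfl⟩ := Submodule.mem_span_singleton.1 hv
    have e1 : d * x - x * d = y * (x * x) - x * x * y := by rw [hd]; noncomm_ring
    have e2 : d * y - y * d = x * (y * y) - y * y * x := by rw [hd]; noncomm_ring
    rw [show d * (α • x + β • y + q) - (α • x + β • y + q) * d =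
      α • (d * x - x * d) + β • (d * y - y * d) + (d * q - q * d) by
      simp only [mul_add, add_mul, mul_smul_comm, smul_mul_assoc, smul_sub]; abel, e1, e2]
    refine add_mem (add_mem (Submodule.smul_mem _ _ ?_) (Submodule.smul_mem _ _ ?_)) ?_
    · exact sub_mem (mul_mem_pow (mem_pow_one hy) hxx) (mul_mem_pow hxx (mem_pow_one hy))
    · exact sub_mem (mul_mem_pow (mem_pow_one hx) hyy) (mul_mem_pow hyy (mem_pow_one hx))
    · have hq2 : q ∈ N ^ 2 := by rw [pow_two]; exact hq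
      exact sub_mem (mul_mem_pow hd2 hq2) (mul_mem_pow hq2 hd2)
  have hdl : ∀ l, ∀ n ∈ N, d ^ (l + 1) * n - n * d ^ (l + 1) ∈ N ^ (2 * (l + 1) + 2) := by
    intro l
    induction l with
    | zero => simpa using hd1
    | succ l ih =>
      intro n hn
      rw [pow_succ d (l + 1), show d ^ (l + 1) * d * n - n * (d ^ (l + 1) * d) =
        d ^ (l + 1) * (d * n - n * d) + (d ^ (l + 1) * n - n * d ^ (l + 1)) * d by noncomm_ring]
      refine add_mem ?_ ?_
      · exact mul_mem_pow (i := 2 * (l + 1)) (j := 4) (hdpow _) (hd1 n hn)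
      · exact mul_mem_pow (i := 2 * (l + 1) + 2) (j := 2) (ih n hn) hd2
  obtain ⟨z, hz⟩ : ∃ z, z = d ^ (i + 1) := ⟨_, rfl⟩
  have hzN : z ∈ N ^ (2 * (i + 1)) := hz ▸ hdpow _
  have hzc : d * z = z * d := by rw [hz, ← pow_succ', ← pow_succ]
  set H : Submodule k R := Submodule.span k
    {t | ∃ n ∈ N, ∃ r ∈ N ^ 3, t = n * r - r * n} ⊔
    Submodule.span k {t | ∃ q ∈ N ^ 2, ∃ r ∈ N ^ 2, t = q * r - r * q} with hH
  have hHz : ∀ t ∈ H, lam (t * z) = 0 := by
    have hraise := comm_raise (fun n hn => hz ▸ hdl i n hn)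
    intro t ht
    obtain ⟨t₁, ht₁, t₂, ht₂, rfl⟩ := Submodule.mem_sup.1 ht
    clear ht
    rw [add_mul, map_add]
    have hz1 : lam (t₁ * z) = 0 := by
      induction ht₁ using Submodule.span_induction with
      | mem t ht =>
        obtain ⟨n, hn, r, hr, rfl⟩ := ht
        rw [sub_mul, map_sub, mul_assoc r n z, h.cyc r, ← map_sub, mul_assoc n r z, mul_assoc n z r,
          ← mul_sub, h.eq_zero (i := 1 + (2 * (i + 1) + 2 + 2)) (by omega)
            (mul_mem_pow (mem_pow_one hn) (by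
              rw [← neg_sub]; exact neg_mem (hraise 2 r hr))), map_zero]
      | zero => simp
      | add u v _ _ hu hv => rw [add_mul, map_add, hu, hv, add_zero]
      | smul c u _ hu => rw [smul_mul_assoc, map_smul, hu, smul_zero]
    have hz2 : lam (t₂ * z) = 0 := by
      induction ht₂ using Submodule.span_induction with
      | mem t ht =>
        obtain ⟨n, hn, r, hr, rfl⟩ := ht
        rw [sub_mul, map_sub, mul_assoc r n z, h.cyc r, ← map_sub, mul_assoc n r z, mul_assoc n z r,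
          ← mul_sub, h.eq_zero (i := 2 + (2 * (i + 1) + 1 + 2)) (by omega)
            (mul_mem_pow hn (by rw [← neg_sub]; exact neg_mem (hraise 1 r hr))), map_zero]
      | zero => simp
      | add u v _ _ hu hv => rw [add_mul, map_add, hu, hv, add_zero]
      | smul c u _ hu => rw [smul_mul_assoc, map_smul, hu, smul_zero]
    rw [hz1, hz2, add_zero]
  have hH4 : H ≤ N ^ 4 := by
    refine sup_le (Submodule.span_le.2 ?_) (Submodule.span_le.2 ?_)
    · rintro _ ⟨n, hn, r, hr, rfl⟩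
      exact sub_mem (mul_mem_pow (mem_pow_one hn) hr) (mul_mem_pow hr (mem_pow_one hn))
    · rintro _ ⟨q, hq, r, hr, rfl⟩
      exact sub_mem (mul_mem_pow hq hr) (mul_mem_pow hr hq)
  have h2 : N * N ≤ Submodule.span k {x * y, y * x} ⊔ N ^ 3 := by
    simpa [pow_two] using (pow_le_words hx hy hxx hyy hgen 0).1
  -- the commutators
  have hcomm : comm2 N ≤ Submodule.span k {x * (x * y) - x * y * x, x * (y * x) - y * x * x} ⊔
      Submodule.span k {y * (x * y) - x * y * y, y * (y * x) - y * x * y} ⊔ H := by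
    refine Submodule.span_le.2 ?_
    rintro _ ⟨n, hn, q, hq, rfl⟩
    obtain ⟨n₁, hn₁, n₂, hn₂, rfl⟩ := Submodule.mem_sup.1 (hgen hn)
    obtain ⟨u, hu, v, hv, rfl⟩ := Submodule.mem_sup.1 hn₁
    obtain ⟨α, rfl⟩ := Submodule.mem_span_singleton.1 hu
    obtain ⟨β, rfl⟩ := Submodule.mem_span_singleton.1 hv
    obtain ⟨q₁, hq₁, q₂, hq₂, hq'⟩ := Submodule.mem_sup.1 (h2 hq)
    obtain ⟨γ, δ, rfl⟩ := Submodule.mem_span_pair.1 hq₁
    subst hq'
    rw [SetLike.mem_coe, show (α • x + β • y + n₂) * (γ • (x * y) + δ • (y * x) + q₂) -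
        (γ • (x * y) + δ • (y * x) + q₂) * (α • x + β • y + n₂) =
      ((α * γ) • (x * (x * y) - x * y * x) + (α * δ) • (x * (y * x) - y * x * x)) +
      ((β * γ) • (y * (x * y) - x * y * y) + (β * δ) • (y * (y * x) - y * x * y)) +
      (((α • x + β • y) * q₂ - q₂ * (α • x + β • y)) +
        (n₂ * (γ • (x * y) + δ • (y * x) + q₂) - (γ • (x * y) + δ • (y * x) + q₂) * n₂)) by
      simp only [add_mul, mul_add, smul_mul_assoc, mul_smul_comm, smul_smul, smul_sub, smul_add,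
        ← mul_assoc]
      module]
    refine Submodule.add_mem_sup (Submodule.add_mem_sup (Submodule.mem_span_pair.2 ⟨_, _, rfl⟩)
      (Submodule.mem_span_pair.2 ⟨_, _, rfl⟩)) (add_mem (Submodule.mem_sup_left
        (Submodule.subset_span ⟨_, ?_, q₂, hq₂, rfl⟩)) (Submodule.mem_sup_right
        (Submodule.subset_span ⟨n₂, ?_, _, ?_, rfl⟩)))
    · exact add_mem (N.smul_mem α hx) (N.smul_mem β hy)
    · rw [pow_two]; exact hn₂
    · rw [pow_two]; exact hq
  have hu : (x * y) ^ 2 ∈ N ^ 4 := hxy 2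
  obtain ⟨t, ht, s', hs', hts⟩ :=
    Submodule.mem_sup.1 (h3 (h.pow_le (by omega) (by omega) hu))
  obtain ⟨t₁, ht₁, tH, htH, ht'⟩ := Submodule.mem_sup.1 (hcomm ht)
  obtain ⟨tx, htx, ty, hty, ht₁'⟩ := Submodule.mem_sup.1 ht₁
  obtain ⟨α₁, α₂, rfl⟩ := Submodule.mem_span_pair.1 htx
  obtain ⟨γ₁, γ₂, rfl⟩ := Submodule.mem_span_pair.1 hty
  have hs4 : s' ∈ N ^ 4 := h.pow_le (by omega) (by omega) hs'
  have hxxy : ∀ {u v : R}, u ∈ N ^ 3 → v ∈ N → u * v ∈ N ^ 4 ∧ v * u ∈ N ^ 4 := fun hu hv =>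
    ⟨mul_mem_pow hu (mem_pow_one hv), mul_mem_pow (mem_pow_one hv) hu⟩
  have hlead : (α₂ - α₁) • (x * y * x) + (γ₁ - γ₂) • (y * x * y) ∈ N ^ 4 := by
    rw [show (α₂ - α₁) • (x * y * x) + (γ₁ - γ₂) • (y * x * y) =
      ((x * y) ^ 2 - s' - tH) - α₁ • (x * x * y) + α₂ • (y * (x * x)) + γ₁ • (x * (y * y)) -
        γ₂ • (y * y * x) by
      rw [← hts, ← ht', ← ht₁']
      simp only [smul_sub, sub_smul, mul_assoc]
      abel]
    exact sub_mem (add_mem (add_mem (sub_mem (sub_mem (sub_mem hu hs4) (hH4 htH))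
      (Submodule.smul_mem _ _ (hxxy hxx hy).1)) (Submodule.smul_mem _ _ (hxxy hxx hy).2))
      (Submodule.smul_mem _ _ (hxxy hyy hx).2)) (Submodule.smul_mem _ _ (hxxy hyy hx).1)
  have hα : α₂ - α₁ = 0 :=
    coef_eq_zero hx hy hyy h (i := i) (by omega) hτ hlead
  have hγ : γ₁ - γ₂ = 0 :=
    coef_eq_zero hy hx hxx h (i := i) (by omega) (by rw [hcyc]; exact hτ)
      (by rwa [add_comm] at hlead)
  rw [sub_eq_zero] at hα hγ
  have hdz : ∀ w, lam ((w * d - d * w) * z) = 0 := fun w => by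
    rw [sub_mul, map_sub, mul_assoc d w z, h.cyc d, mul_assoc w d z, mul_assoc w z d, hzc, sub_self]
  have htz : lam (t * z) = 0 := by
    rw [← ht', ← ht₁', hα, ← hγ,
      show α₁ • (x * (x * y) - x * y * x) + α₁ • (x * (y * x) - y * x * x) +
        (γ₁ • (y * (x * y) - x * y * y) + γ₁ • (y * (y * x) - y * x * y)) + tH =
        α₁ • (x * d - d * x) + γ₁ • (y * d - d * y) + tH by
        rw [hd]; simp only [mul_add, add_mul, smul_sub, smul_add]; abel,
      add_mul, add_mul, smul_mul_assoc, smul_mul_assoc, map_add, map_add, map_smul, map_smul, hdz,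
      hdz, hHz tH htH]
    simp
  have hsz : s' * z = 0 :=
    h.eq_zero (i := 2 * (i + 3) + 2 * (i + 1)) (by omega) (mul_mem_pow hs' hzN)
  have hxyd : ∀ l, x * y * d ^ l - (x * y) ^ (l + 1) ∈ N ^ (2 * l + 3) := by
    intro l
    induction l with
    | zero => simp
    | succ l ih =>
      rw [pow_succ d l, show x * y * (d ^ l * d) - (x * y) ^ (l + 1 + 1) =
        (x * y * d ^ l - (x * y) ^ (l + 1)) * d + (x * y) ^ l * (x * (y * y) * x) by
        rw [pow_succ (x * y) (l + 1), pow_succ (x * y) l, hd]; noncomm_ring]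
      refine add_mem ?_ ?_
      · exact mul_mem_pow (i := 2 * l + 3) (j := 2) ih hd2
      · exact mul_mem_pow (i := 2 * l) (j := 5) (hxy l)
          (mul_mem_pow (i := 4) (j := 1) (mul_mem_pow (mem_pow_one hx) hyy) (mem_pow_one hx))
  have huz : (x * y) ^ 2 * z = (x * y) ^ (i + 3) := by
    refine sub_eq_zero.1 (h.eq_zero (i := 2 + (2 * (i + 1) + 3)) (by omega) ?_)
    rw [show (x * y) ^ 2 * z - (x * y) ^ (i + 3) =
      x * y * (x * y * z - (x * y) ^ (i + 1 + 1)) by
      rw [mul_sub, ← pow_succ', pow_two, mul_assoc]]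
    exact mul_mem_pow (by rw [pow_two]; exact Submodule.mul_mem_mul hx hy) (hz ▸ hxyd (i + 1))
  exact hτ (by rw [← huz, ← hts, add_mul, hsz, add_zero, htz])

end CfsgLib.SmallBlock.Five
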