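import Cfsg.Agent.SmallBlock.Five.Filtration
import Mathlib.LinearAlgebra.LinearIndependent.Basic
import Mathlib.LinearAlgebra.Eigenspace.Triangularizable

/-!
# Small algebras with an automorphism without fixed characters
-/

set_option autoImplicit false
set_option linter.unusedSectionVars false
set_option linter.style.haveILetI false

namespace CfsgLib.SmallBlock.Five

variable {k V : Type*} [Field k] [Ring V] [Algebra k V] [FiniteDimensional k V]

theorem chars_linearIndependent {n : ℕ} (f : Fin n → (V →ₐ[k] k)) (hf : Function.Injective f) :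
    LinearIndependent k fun i => (f i).toLinearMap := by
  refine LinearIndependent.of_comp (LinearMap.ltoFun k V k k) ?_
  have hinj : Function.Injective fun i => ((f i : V →ₐ[k] k) : V →* k) := fun i j hij =>
    hf (AlgHom.ext fun x => DFunLike.congr_fun hij x)
  exact (linearIndependent_monoidHom V k).comp _ hinj

theorem chars_card_le {n : ℕ} (f : Fin n → (V →ₐ[k] k)) (hf : Function.Injective f) :
    n ≤ Module.finrank k V := by
  have := (chars_linearIndependent f hf).fintype_card_le_finrank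
  rwa [Fintype.card_fin, Subspace.dual_finrank_eq] at this

theorem eq_of_chars {n : ℕ} (f : Fin n → (V →ₐ[k] k)) (hf : Function.Injective f)
    (hn : Module.finrank k V ≤ n) {x y : V} (hxy : ∀ i, f i x = f i y) : x = y := by
  have hli := chars_linearIndependent f hf
  have hspan : Submodule.span k (Set.range fun i => (f i).toLinearMap) = ⊤ :=
    Submodule.eq_top_of_finrank_eq (le_antisymm (Submodule.finrank_le _) (by
      rw [finrank_span_eq_card hli, Subspace.dual_finrank_eq, Fintype.card_fin]; exact hn))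
  refine sub_eq_zero.1 ((Module.forall_dual_apply_eq_zero_iff k (x - y)).1 fun φ => ?_)
  have hφ : φ ∈ Submodule.span k (Set.range fun i => (f i).toLinearMap) :=
    hspan ▸ Submodule.mem_top
  induction hφ using Submodule.span_induction with
  | mem φ hφ => obtain ⟨i, rfl⟩ := hφ; simp [hxy i]
  | zero => simp
  | add u v _ _ hu hv => rw [LinearMap.add_apply, hu, hv, add_zero]
  | smul c u _ hu => rw [LinearMap.smul_apply, hu, smul_zero]

/-- A one-dimensional left ideal gives a character. -/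
theorem exists_char_of_line {j : V} (hj : j ≠ 0) (h : ∀ x : V, ∃ c : k, x * j = c • j) :
    ∃ χ : V →ₐ[k] k, ∀ x, x * j = χ x • j := by
  choose c hc using h
  have hu : ∀ {a b : k}, a • j = b • j → a = b := fun hab => smul_left_injective k hj hab
  refine ⟨AlgHom.ofLinearMap
    { toFun := c
      map_add' := fun x y => hu (by rw [← hc, add_mul, hc, hc, add_smul])
      map_smul' := fun r x => hu (by
        rw [← hc, RingHom.id_apply, smul_mul_assoc, hc, smul_eq_mul, mul_smul]) }
    (hu (by show c 1 • j = (1 : k) • j; rw [← hc, one_mul, one_smul]))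
    (fun x y => hu (by
      show c (x * y) • j = (c x * c y) • j
      rw [← hc, mul_assoc, hc, mul_smul_comm, hc, smul_smul, mul_comm (c y)])), hc⟩

theorem exists_char [IsAlgClosed k] (hd : Module.finrank k V ≤ 3) {v : V}
    (hv : ∀ c : k, v ≠ c • 1) : Nonempty (V →ₐ[k] k) := by
  haveI : Nontrivial V := ⟨⟨v, 0, by simpa using hv 0⟩⟩
  obtain ⟨c, hc⟩ := Module.End.exists_eigenvalue (LinearMap.mulRight k v)
  obtain ⟨w, hw⟩ := hc.exists_hasEigenvector
  set v' := v - c • (1 : V) with hv'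
  set g := LinearMap.mulRight k v'
  have hker : LinearMap.ker g ≠ ⊥ := fun h0 => hw.2 ((Submodule.eq_bot_iff _).1 h0 w (by
    show w * v' = 0
    rw [hv', mul_sub, mul_smul_comm, mul_one, sub_eq_zero]
    exact hw.apply_eq_smul))
  have hran : LinearMap.range g ≠ ⊥ := fun h0 => hv c (sub_eq_zero.1
    ((Submodule.eq_bot_iff _).1 h0 v' ⟨1, one_mul v'⟩))
  have hsum := LinearMap.finrank_range_add_finrank_ker g
  have h1 := Submodule.one_le_finrank_iff.2 hker
  have h2 := Submodule.one_le_finrank_iff.2 hran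
  obtain ⟨I, hI, hI1⟩ : ∃ I : Submodule k V, (∀ x, ∀ i ∈ I, x * i ∈ I) ∧
      Module.finrank k I = 1 := by
    rcases (by omega : Module.finrank k (LinearMap.ker g) = 1 ∨
      Module.finrank k (LinearMap.range g) = 1) with h | h
    · exact ⟨_, fun x i hi => by
        show x * i * v' = 0
        rw [mul_assoc, show i * v' = 0 from hi, mul_zero], h⟩
    · exact ⟨_, fun x i hi => by
        obtain ⟨z, rfl⟩ := hi
        exact ⟨x * z, mul_assoc x z v'⟩, h⟩
  obtain ⟨⟨j, hjI⟩, hj0, hspan⟩ := finrank_eq_one_iff'.1 hI1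
  obtain ⟨χ, -⟩ := exists_char_of_line (j := j) (fun h0 => hj0 (Subtype.ext h0)) fun x => by
    obtain ⟨a, ha⟩ := hspan ⟨x * j, hI x j hjI⟩
    exact ⟨a, (congrArg Subtype.val ha).symm⟩
  exact ⟨χ⟩

/-- An algebra of dimension at most three with an automorphism `σ`, a nonzero invariant
functional, and spanned by the twisted commutators, is `k × k` with the factors exchanged. -/
theorem eq_two_of_span [IsAlgClosed k] (hd : Module.finrank k V ≤ 3) (σ : V ≃ₐ[k] V)
    (l : V →ₗ[k] k) (hl : ∀ x, l (σ x) = l x) (hl0 : l ≠ 0)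
    (hspan : ⊤ ≤ Submodule.span k {z | ∃ x y, z = σ (σ x) * y - σ y * x}) :
    Module.finrank k V = 2 ∧ ∃ e₁ e₂ : V, e₁ * e₂ = 0 ∧ e₂ * e₁ = 0 ∧ e₁ + e₂ = 1 ∧
      σ e₁ = e₂ ∧ σ e₂ = e₁ := by
  have hzero : ∀ φ : V →ₗ[k] k, (∀ x y, φ (σ (σ x) * y - σ y * x) = 0) → φ = 0 := by
    intro φ hφ
    refine LinearMap.ext fun z => ?_
    exact Submodule.span_le (p := LinearMap.ker φ).2
      (by rintro _ ⟨x, y, rfl⟩; exact hφ x y) (hspan Submodule.mem_top)
  have hne : ∀ χ : V →ₐ[k] k, χ.comp σ.toAlgHom ≠ χ := by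
    intro χ h
    have h' : ∀ x, χ (σ x) = χ x := fun x => DFunLike.congr_fun h x
    have h1 := LinearMap.congr_fun (hzero χ.toLinearMap fun x y => by
      simp [h', mul_comm]) 1
    simp at h1
  obtain ⟨v, hv⟩ : ∃ v : V, ∀ c : k, v ≠ c • 1 := by
    by_contra! h
    refine hl0 (hzero l fun x y => ?_)
    obtain ⟨a, rfl⟩ := h x
    obtain ⟨b, rfl⟩ := h y
    simp
    ring
  obtain ⟨χ⟩ := exists_char hd hv
  set χ₁ := χ.comp σ.toAlgHom with hχ₁
  set χ₂ := χ₁.comp σ.toAlgHom with hχ₂
  have h01 : χ ≠ χ₁ := (hne χ).symm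
  have h12 : χ₁ ≠ χ₂ := (hne χ₁).symm
  by_cases h02 : χ = χ₂
  · obtain ⟨u, hu⟩ : ∃ u, χ u ≠ χ₁ u := by
      by_contra! h; exact h01 (AlgHom.ext h)
    obtain ⟨e, he0, he1⟩ : ∃ e, χ e = 1 ∧ χ₁ e = 0 :=
      ⟨(χ u - χ₁ u)⁻¹ • (u - χ₁ u • 1), by simp [inv_mul_cancel₀ (sub_ne_zero.2 hu)], by simp⟩
    have hf : Function.Injective ![χ, χ₁] := by
      intro i j; fin_cases i <;> fin_cases j <;> simp [h01, h01.symm]
    have h2le := chars_card_le _ hf
    have hσσ : ∀ x, χ (σ (σ x)) = χ x := fun x => (DFunLike.congr_fun h02 x).symm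
    by_cases h2 : Module.finrank k V = 2
    · refine ⟨h2, e, 1 - e, ?_, ?_, by abel, ?_, ?_⟩
      all_goals refine eq_of_chars _ hf h2.le fun i => ?_
      all_goals fin_cases i
      all_goals simp [he0, he1]
      all_goals first
        | exact he1
        | (show χ (σ (σ e)) = _; rw [hσσ, he0])
        | (show 1 - χ (σ (σ e)) = _; rw [hσσ, he0]; simp)
    exfalso
    let f : V →ₗ[k] k × k := χ.toLinearMap.prod χ₁.toLinearMap
    have hsurj : LinearMap.range f = ⊤ := LinearMap.range_eq_top.2 fun ⟨a, b⟩ =>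
      ⟨a • e + b • (1 - e), by simp [f, he0, he1]⟩
    have hsum := LinearMap.finrank_range_add_finrank_ker f
    rw [hsurj, finrank_top, Module.finrank_prod, Module.finrank_self] at hsum
    obtain ⟨⟨j, hjJ⟩, hj0, hline⟩ :=
      finrank_eq_one_iff'.1 (by omega : Module.finrank k (LinearMap.ker f) = 1)
    have hJ : ∀ z, χ z = 0 → χ₁ z = 0 → ∃ c : k, z = c • j := fun z h0 h1 => by
      obtain ⟨c, hc⟩ := hline ⟨z, Prod.ext h0 h1⟩
      exact ⟨c, (congrArg Subtype.val hc).symm⟩
    have hj : χ j = 0 ∧ χ₁ j = 0 := ⟨congrArg Prod.fst hjJ, congrArg Prod.snd hjJ⟩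
    have hj' : j ≠ 0 := fun h0 => hj0 (Subtype.ext h0)
    obtain ⟨μ, hμ⟩ := hJ (σ j) hj.2 (show χ (σ (σ j)) = 0 by rw [hσσ, hj.1])
    obtain ⟨ψ, hψ⟩ := exists_char_of_line hj' fun x => hJ (x * j) (by simp [hj.1]) (by simp [hj.2])
    refine hne ψ (AlgHom.ext fun x => ?_)
    have hμ0 : μ ≠ 0 := fun h0 => hj' (σ.injective (by rw [hμ, h0, zero_smul, map_zero]))
    have := congrArg σ (hψ x)
    rw [map_mul, map_smul, hμ, mul_smul_comm, hψ, smul_smul, smul_smul] at this
    have := smul_left_injective k hj' this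
    show ψ (σ x) = ψ x
    exact mul_left_cancel₀ hμ0 (this.trans (mul_comm _ _))
  exfalso
  have hf : Function.Injective ![χ, χ₁, χ₂] := by
    intro i j
    fin_cases i <;> fin_cases j <;> simp [h01, h12, h02, h01.symm, h12.symm, Ne.symm h02]
  set χ₃ := χ₂.comp σ.toAlgHom with hχ₃
  have h23 : χ₂ ≠ χ₃ := (hne χ₂).symm
  have h13 : χ₁ ≠ χ₃ := fun h => h02 (AlgHom.ext fun x => by
    have := DFunLike.congr_fun h (σ.symm x)
    simpa [hχ₁, hχ₂, hχ₃] using this)
  have h03 : χ = χ₃ := by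
    by_contra h03
    have hg : Function.Injective ![χ, χ₁, χ₂, χ₃] := by
      intro i j
      fin_cases i <;> fin_cases j <;>
        simp [h01, h12, h02, h01.symm, h12.symm, Ne.symm h02, h23, h13, h03, h23.symm, h13.symm,
          Ne.symm h03]
    have := chars_card_le _ hg
    omega
  have hc3 : ∀ x, χ (σ (σ (σ x))) = χ x := fun x => (DFunLike.congr_fun h03 x).symm
  have hσ3 : ∀ x, σ (σ (σ x)) = x := fun x => eq_of_chars _ hf hd fun i => by
    fin_cases i
    · exact hc3 x
    · exact hc3 (σ x)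
    · exact hc3 (σ (σ x))
  have hcomm : ∀ x y : V, x * y = y * x := fun x y => eq_of_chars _ hf hd fun i => by
    rw [map_mul, map_mul, mul_comm]
  refine hl0 (hzero l fun x y => ?_)
  rw [map_sub, sub_eq_zero, ← hl (σ (σ x) * y), map_mul, hσ3, hcomm]

end CfsgLib.SmallBlock.Five
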