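import Cfsg.Agent.SmallBlock.LocalAlgebra
import Mathlib.Tactic.NoncommRing

/-!
# The trace filtration of a nilpotent subspace with a symmetric form

For a multiplicatively closed nilpotent subspace `N` with last nonzero power `N ^ m`, a trace
`lam` nonzero on it, `ker N lam m j` is the part of `N ^ j` paired to zero with `N ^ (m - j)`.
-/

set_option autoImplicit false
set_option linter.unusedSectionVars false

namespace CfsgLib.SmallBlock.Five

variable {k R : Type*} [Field k] [Ring R] [Algebra k R]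

/-- The trace of a nilpotent subspace with top power `m`. -/
structure IsTraceData (N : Submodule k R) (lam : R →ₗ[k] k) (m : ℕ) : Prop where
  mul_le : N * N ≤ N
  cyc : ∀ x y, lam (x * y) = lam (y * x)
  top : N ^ (m + 1) = ⊥
  inj : ∀ z ∈ N ^ m, lam z = 0 → z = 0
  ne : N ^ m ≠ ⊥

/-- The part of `N ^ j` which pairs to zero with `N ^ (m - j)`. -/
def ker (N : Submodule k R) (lam : R →ₗ[k] k) (m j : ℕ) : Submodule k R where
  carrier := {r | r ∈ N ^ j ∧ ∀ w ∈ N ^ (m - j), lam (r * w) = 0}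
  add_mem' := fun ha hb => ⟨add_mem ha.1 hb.1, fun w hw => by
    rw [add_mul, map_add, ha.2 w hw, hb.2 w hw, add_zero]⟩
  zero_mem' := ⟨zero_mem _, fun w _ => by rw [zero_mul, map_zero]⟩
  smul_mem' := fun c x hx => ⟨Submodule.smul_mem _ c hx.1, fun w hw => by
    rw [smul_mul_assoc, map_smul, hx.2 w hw, smul_zero]⟩

variable {N : Submodule k R} {lam : R →ₗ[k] k} {m : ℕ}

theorem mem_ker {j : ℕ} {r : R} :
    r ∈ ker N lam m j ↔ r ∈ N ^ j ∧ ∀ w ∈ N ^ (m - j), lam (r * w) = 0 := Iff.rfl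

theorem ker_le {j : ℕ} : ker N lam m j ≤ N ^ j := fun _ hx => hx.1

theorem mul_mem_pow {i j : ℕ} {x y : R} (hx : x ∈ N ^ i) (hy : y ∈ N ^ j) :
    x * y ∈ N ^ (i + j) := by
  rw [pow_add]; exact Submodule.mul_mem_mul hx hy

theorem pow_two_eq : N ^ 2 = N * N := pow_two N

namespace IsTraceData

variable (h : IsTraceData N lam m)
include h

theorem pow_succ_le {j : ℕ} (hj : 1 ≤ j) : N ^ (j + 1) ≤ N ^ j := by
  obtain ⟨i, rfl⟩ := Nat.exists_eq_add_of_le' hj
  rw [pow_succ N (i + 1), pow_succ N i, mul_assoc]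
  exact mul_le_mul_right h.mul_le (N ^ i)

theorem pow_le {i j : ℕ} (hj : 1 ≤ j) (hij : j ≤ i) : N ^ i ≤ N ^ j := by
  induction i, hij using Nat.le_induction with
  | base => exact le_rfl
  | succ i hi ih => exact (h.pow_succ_le (hj.trans hi)).trans ih

theorem eq_zero {i : ℕ} (hi : m < i) {x : R} (hx : x ∈ N ^ i) : x = 0 := by
  have := h.pow_le (by omega : 1 ≤ m + 1) (Nat.succ_le_of_lt hi) hx
  rwa [h.top, Submodule.mem_bot] at this

theorem mem_ker_of_pow {i j : ℕ} (hj : 1 ≤ j) (hij : j < i) {x : R} (hx : x ∈ N ^ i) :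
    x ∈ ker N lam m j :=
  ⟨h.pow_le hj hij.le hx, fun w hw => by
    rw [h.eq_zero (by omega) (mul_mem_pow hx hw), map_zero]⟩

theorem pow_le_ker {i j : ℕ} (hj : 1 ≤ j) (hij : j < i) : N ^ i ≤ ker N lam m j :=
  fun _ hx => h.mem_ker_of_pow hj hij hx

theorem mul_ker {i j l : ℕ} {x r : R} (hx : x ∈ N ^ i) (hr : r ∈ ker N lam m j) (hl : i + j = l) :
    x * r ∈ ker N lam m l := by
  subst hl
  refine ⟨mul_mem_pow hx hr.1, fun w hw => ?_⟩
  by_cases hij : i + j ≤ m
  · rw [mul_assoc, h.cyc, mul_assoc]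
    refine hr.2 _ ?_
    have := mul_mem_pow hw hx
    rwa [show m - (i + j) + i = m - j by omega] at this
  · rw [h.eq_zero (by omega) (mul_mem_pow hx hr.1), zero_mul, map_zero]

theorem ker_mul {i j l : ℕ} {r x : R} (hr : r ∈ ker N lam m j) (hx : x ∈ N ^ i) (hl : j + i = l) :
    r * x ∈ ker N lam m l := by
  subst hl
  refine ⟨mul_mem_pow hr.1 hx, fun w hw => ?_⟩
  by_cases hij : j + i ≤ m
  · rw [mul_assoc]
    refine hr.2 _ ?_
    have := mul_mem_pow hx hw
    rwa [show i + (m - (j + i)) = m - j by omega] at this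
  · rw [h.eq_zero (by omega) (mul_mem_pow hr.1 hx), zero_mul, map_zero]

theorem eq_zero_of_ker_top {z : R} (hz : z ∈ ker N lam m m) : z = 0 :=
  h.inj z hz.1 (by
    have := hz.2 1 (by rw [Nat.sub_self, pow_zero]; exact Submodule.one_le.1 le_rfl)
    rwa [mul_one] at this)

theorem ker_top_eq : ker N lam m m = ⊥ :=
  (Submodule.eq_bot_iff _).2 fun _ hz => h.eq_zero_of_ker_top hz

theorem not_pow_le_ker {j : ℕ} (hj : j ≤ m) : ¬ N ^ j ≤ ker N lam m j := by
  intro hle
  apply h.ne
  have key : ∀ z ∈ N ^ j * N ^ (m - j), lam z = 0 := fun z hz =>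
    Submodule.mul_induction_on hz (fun r hr w hw => (hle hr).2 w hw)
      fun u v hu hv => by rw [map_add, hu, hv, add_zero]
  refine (Submodule.eq_bot_iff _).2 fun z hz => h.inj z hz (key z ?_)
  rwa [← pow_add, Nat.add_sub_cancel' hj]

theorem mem_ker_one_of_right (hm : 2 ≤ m) {x : R} (hx : x ∈ N)
    (hxu : ∀ u ∈ N, x * u ∈ ker N lam m 2) : x ∈ ker N lam m 1 := by
  refine ⟨by rwa [pow_one], fun w hw => ?_⟩
  rw [show m - 1 = m - 2 + 1 by omega, pow_succ'] at hw
  refine Submodule.mul_induction_on hw (fun u hu w hw => ?_)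
    fun u v hu hv => by rw [mul_add, map_add, hu, hv, add_zero]
  rw [← mul_assoc]; exact (hxu u hu).2 w hw

theorem mem_ker_one_of_left (hm : 2 ≤ m) {x : R} (hx : x ∈ N)
    (hxu : ∀ u ∈ N, u * x ∈ ker N lam m 2) : x ∈ ker N lam m 1 := by
  refine ⟨by rwa [pow_one], fun w hw => ?_⟩
  rw [show m - 1 = m - 2 + 1 by omega, pow_succ] at hw
  refine Submodule.mul_induction_on hw (fun w hw u hu => ?_)
    fun u v hu hv => by rw [mul_add, map_add, hu, hv, add_zero]
  rw [← mul_assoc, h.cyc, ← mul_assoc]; exact (hxu u hu).2 w hw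

/-- Duality: the codimension of `ker N lam m 1` is at most the number of generators of
`N ^ (m - 1)` modulo its kernel. -/
theorem finrank_le_ker_one_add [FiniteDimensional k R] (hm : 2 ≤ m) {n : ℕ} (r : Fin n → R)
    (hr : N ^ (m - 1) ≤ Submodule.span k (Set.range r) ⊔ ker N lam m (m - 1)) :
    Module.finrank k N ≤ Module.finrank k (ker N lam m 1) + n := by
  let f : N →ₗ[k] (Fin n → k) :=
    LinearMap.pi fun i => (lam.comp (LinearMap.mulRight k (r i))).comp N.subtype
  have hk : (LinearMap.ker f).map N.subtype ≤ ker N lam m 1 := by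
    rintro _ ⟨⟨x, hx⟩, hfx, rfl⟩
    refine ⟨by rw [pow_one]; exact hx, fun w hw => ?_⟩
    obtain ⟨u, hu, v, hv, rfl⟩ := Submodule.mem_sup.1 (hr hw)
    have h1 : lam (x * v) = 0 := by
      rw [h.cyc]
      exact hv.2 x (by rw [show m - (m - 1) = 1 by omega, pow_one]; exact hx)
    have h2 : lam (x * u) = 0 := by
      clear hw
      induction hu using Submodule.span_induction with
      | mem u hu => obtain ⟨i, rfl⟩ := hu; exact congrFun (LinearMap.mem_ker.1 hfx) i
      | zero => simp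
      | add u v _ _ hu hv => rw [mul_add, map_add, hu, hv, add_zero]
      | smul c u _ hu => rw [mul_smul_comm, map_smul, hu, smul_zero]
    show lam (x * (u + v)) = 0
    rw [mul_add, map_add, h1, h2, add_zero]
  have h1 := LinearMap.finrank_range_add_finrank_ker f
  have h2 := Submodule.finrank_mono hk
  rw [Submodule.finrank_map_subtype_eq] at h2
  have h3 := Submodule.finrank_le (LinearMap.range f)
  rw [Module.finrank_fin_fun] at h3
  omega

end IsTraceData

/-- The commutators of elements of `N` with elements of `N * N`. -/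
def comm2 (N : Submodule k R) : Submodule k R :=
  Submodule.span k {z | ∃ x ∈ N, ∃ q ∈ N * N, z = x * q - q * x}

theorem comm_mem_comm2 {x q : R} (hx : x ∈ N) (hq : q ∈ N * N) :
    x * q - q * x ∈ comm2 N := Submodule.subset_span ⟨x, hx, q, hq, rfl⟩

theorem comm2_le_pow_three : comm2 N ≤ N ^ 3 := Submodule.span_le.2 (by
  rintro _ ⟨x, hx, q, hq, rfl⟩
  refine sub_mem ?_ ?_
  · rw [pow_succ', pow_two]; exact Submodule.mul_mem_mul hx hq
  · rw [pow_succ, pow_two]; exact Submodule.mul_mem_mul hq hx)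

/-- The commutators of `N` modulo `comm2 N` are those of a set of generators. -/
theorem comm_mem_sup (hN : N * N ≤ N) {S C : Submodule k R} (hS : S ≤ N)
    (hgen : N ≤ S ⊔ N * N) (hC : ∀ x ∈ S, ∀ y ∈ S, x * y - y * x ∈ C)
    {u v : R} (hu : u ∈ N) (hv : v ∈ N) : u * v - v * u ∈ C ⊔ comm2 N := by
  obtain ⟨x, hx, q, hq, rfl⟩ := Submodule.mem_sup.1 (hgen hu)
  obtain ⟨y, hy, q', hq', rfl⟩ := Submodule.mem_sup.1 (hgen hv)
  rw [show (x + q) * (y + q') - (y + q') * (x + q) =
      (x * y - y * x) + ((x * q' - q' * x) + (q * q' - q' * q) - (y * q - q * y)) by noncomm_ring]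
  exact Submodule.add_mem_sup (hC x hx y hy) (sub_mem (add_mem (comm_mem_comm2 (hS hx) hq')
    (comm_mem_comm2 (hN hq) hq')) (comm_mem_comm2 (hS hy) hq))

end CfsgLib.SmallBlock.Five
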