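import Cfsg.Agent.SmallBlock.Five.Pairing

/-!
# A left multiplication onto the second layer

It makes the first layer an algebra with an automorphism, to which the lemma on characters applies.
-/

set_option autoImplicit false
set_option linter.unusedSectionVars false
set_option linter.style.haveILetI false

namespace CfsgLib.SmallBlock.Five

variable {k R : Type*} [Field k] [IsAlgClosed k] [Ring R] [Algebra k R] [FiniteDimensional k R]
  {N : Submodule k R} {lam : R →ₗ[k] k} {m : ℕ}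

theorem pair_of_product {V : Type*} [AddCommGroup V] [Module k V] [FiniteDimensional k V]
    (hd : Module.finrank k V ≤ 3) (φ : V →ₗ[k] V →ₗ[k] V) (one : V) (σ : V ≃ₗ[k] V)
    (hσdef : ∀ v, σ v = φ v one) (hone : ∀ v, φ one v = v)
    (hassoc : ∀ u v w, φ (φ u v) w = φ (σ u) (φ v w)) (l : V →ₗ[k] k) (hlσ : ∀ v, l (σ v) = l v)
    (hl0 : l ≠ 0) (hStop : ⊤ ≤ Submodule.span k {z | ∃ x y, z = φ (σ x) y - φ y x}) :
    Module.finrank k V = 2 ∧ ∃ u v, φ u u = 0 ∧ φ v v = 0 ∧ ⊤ ≤ Submodule.span k {u, v} := by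
  classical
  set S : Submodule k V := Submodule.span k {z | ∃ x y, z = φ (σ x) y - φ y x} with hS
  have hσa : σ one = one := by rw [hσdef, hone]
  have hσ' : ∀ v, σ (σ.symm v) = v := σ.apply_symm_apply
  have hσ'a : σ.symm one = one := σ.symm_apply_eq.2 hσa.symm
  have hσφ : ∀ u v, σ (φ u v) = φ (σ u) (σ v) := fun u v => by
    rw [hσdef, hassoc, hσdef v]
  have hσ'φ : ∀ u v, σ.symm (φ u v) = φ (σ.symm u) (σ.symm v) := fun u v => by
    refine σ.symm_apply_eq.2 ?_
    show φ u v = σ (φ (σ.symm u) (σ.symm v))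
    rw [hσφ, hσ', hσ']
  -- the algebra
  let L : V →ₗ[k] Module.End k (V) := φ.comp σ.symm.toLinearMap
  have hLmul : ∀ x y, L x * L y = L (φ (σ.symm x) y) := by
    intro x y
    refine LinearMap.ext fun z => ?_
    show φ (σ.symm x) (φ (σ.symm y) z) = φ (σ.symm (φ (σ.symm x) y)) z
    rw [hσ'φ, hassoc, hσ']
  have hLone : L one = 1 := LinearMap.ext fun z => by
    show φ (σ.symm one) z = z
    rw [hσ'a, hone]
  have hLinj : Function.Injective L := fun x y hxy => by
    have hxy' : φ (σ.symm x) one = φ (σ.symm y) one :=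
      LinearMap.congr_fun hxy one
    rw [← hσdef, ← hσdef] at hxy'
    rwa [hσ', hσ'] at hxy'
  let A : Subalgebra k (Module.End k (V)) :=
    (LinearMap.range L).toSubalgebra ⟨one, hLone⟩ (by
      rintro _ _ ⟨x, rfl⟩ ⟨y, rfl⟩; exact ⟨_, (hLmul x y).symm⟩)
  let E : V ≃ₗ[k] A := LinearEquiv.ofInjective L hLinj
  have hEval : ∀ x, ((E x : A) : Module.End k (V)) = L x := fun _ => rfl
  have hEmul : ∀ x y, E x * E y = E (φ (σ.symm x) y) := fun x y =>
    Subtype.ext (hLmul x y)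
  have hEone : E one = 1 := Subtype.ext hLone
  let σA : A ≃ₐ[k] A := AlgEquiv.ofLinearEquiv ((E.symm.trans σ).trans E)
    (by
      show E (σ (E.symm 1)) = 1
      rw [← hEone, E.symm_apply_apply, hσa])
    (fun p q => by
      obtain ⟨x, rfl⟩ := E.surjective p
      obtain ⟨y, rfl⟩ := E.surjective q
      show E (σ (E.symm (E x * E y))) = E (σ (E.symm (E x))) * E (σ (E.symm (E y)))
      rw [hEmul, E.symm_apply_apply, E.symm_apply_apply, E.symm_apply_apply, hσφ, hσ', hEmul,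
        show σ.symm (σ x) = x from σ.symm_apply_apply x])
  have hσA : ∀ x, σA (E x) = E (σ x) := fun x => by
    show E (σ (E.symm (E x))) = E (σ x)
    rw [E.symm_apply_apply]
  have hspanA : ⊤ ≤ Submodule.span k {z : A | ∃ x y, z = σA (σA x) * y - σA y * x} := by
    intro p _
    obtain ⟨v, rfl⟩ := E.surjective p
    have hv := hStop (Submodule.mem_top (x := v))
    have hle : S ≤ (Submodule.span k {z : A | ∃ x y, z = σA (σA x) * y - σA y * x}).comap
        E.toLinearMap := by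
      refine Submodule.span_le.2 ?_
      rintro _ ⟨x, y, rfl⟩
      refine Submodule.subset_span ⟨E x, E y, ?_⟩
      show E (φ (σ x) y - φ y x) = _
      rw [hσA, hσA, hσA, hEmul, hEmul, map_sub,
        show σ.symm (σ (σ x)) = σ x from σ.symm_apply_apply _,
        show σ.symm (σ y) = y from σ.symm_apply_apply _]
    exact hle hv
  have hdA : Module.finrank k A ≤ 3 := by rw [← E.finrank_eq]; exact hd
  obtain ⟨h2, e₁, e₂, h12, h21, hsum, hσ1, hσ2⟩ := eq_two_of_span (V := A)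
    hdA σA (l.comp E.symm.toLinearMap)
    (fun p => by
      obtain ⟨x, rfl⟩ := E.surjective p
      show l (E.symm (σA (E x))) = l (E.symm (E x))
      rw [hσA, E.symm_apply_apply, E.symm_apply_apply, hlσ])
    (fun h0 => hl0 (LinearMap.ext fun x => by simpa using LinearMap.congr_fun h0 (E x)))
    hspanA
  rw [← E.finrank_eq] at h2
  obtain ⟨u, hu⟩ := E.surjective e₁
  obtain ⟨v, hv⟩ := E.surjective e₂
  have huv : φ u u = 0 ∧ φ v v = 0 := by
    refine ⟨E.injective ?_, E.injective ?_⟩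
    · rw [map_zero, ← h21, ← hσ1, ← hu, hσA, hEmul]
      exact congrArg (fun w => E (φ w u)) (σ.symm_apply_apply u).symm
    · rw [map_zero, ← h12, ← hσ2, ← hv, hσA, hEmul]
      exact congrArg (fun w => E (φ w v)) (σ.symm_apply_apply v).symm
  refine ⟨h2, u, v, huv.1, huv.2, fun z _ => ?_⟩
  have hnt : Nontrivial A := Module.nontrivial_of_finrank_pos (R := k) (by
    rw [← E.finrank_eq]; omega)
  have hne : e₁ ≠ 0 ∧ e₂ ≠ 0 := by
    have h0 : e₁ = 0 → e₂ = 0 := fun h0 => by rw [← hσ1, h0, map_zero]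
    have h0' : e₂ = 0 → e₁ = 0 := fun h0 => by rw [← hσ2, h0, map_zero]
    exact ⟨fun h1 => one_ne_zero (α := A) (by rw [← hsum, h1, h0 h1, add_zero]),
      fun h1 => one_ne_zero (α := A) (by rw [← hsum, h1, h0' h1, add_zero])⟩
  have hli : LinearIndependent k ![e₁, e₂] := by
    refine LinearIndependent.pair_iff.2 fun s t hst => ?_
    have h11 : e₁ * e₁ = e₁ := by
      calc e₁ * e₁ = e₁ * (e₁ + e₂) := by rw [mul_add, h12, add_zero]
        _ = e₁ := by rw [hsum, mul_one]
    have h22 : e₂ * e₂ = e₂ := by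
      calc e₂ * e₂ = e₂ * (e₁ + e₂) := by rw [mul_add, h21, zero_add]
        _ = e₂ := by rw [hsum, mul_one]
    have hs := congrArg (e₁ * ·) hst
    have ht := congrArg (e₂ * ·) hst
    simp only [mul_add, mul_smul_comm, h11, h12, h21, h22, smul_zero, add_zero, zero_add,
      mul_zero] at hs ht
    exact ⟨(smul_eq_zero.1 hs).resolve_right hne.1, (smul_eq_zero.1 ht).resolve_right hne.2⟩
  have hmem : E z ∈ Submodule.span k (Set.range ![e₁, e₂]) := by
    rw [Submodule.eq_top_of_finrank_eq ((finrank_span_eq_card hli).trans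
      (by rw [← E.finrank_eq, h2]; rfl))]
    exact Submodule.mem_top
  rw [Matrix.range_cons, Matrix.range_cons, Matrix.range_empty, Set.union_empty,
    Set.union_singleton, Submodule.mem_span_pair] at hmem
  obtain ⟨s, t, hst⟩ := hmem
  refine Submodule.mem_span_pair.2 ⟨t, s, E.injective ?_⟩
  rw [map_add, map_smul, map_smul, hu, hv, ← hst, add_comm]

set_option maxHeartbeats 1000000 in
/-- With commutators filling the third power modulo the trace kernel, the first layer has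
dimension two and is spanned by two elements with squares in the trace kernel. -/
theorem exists_pair_of_full (h : IsTraceData N lam m) (hm : 4 ≤ m)
    (hd : Module.finrank k (Layer1 N lam m) ≤ 3) {a : R} (ha : a ∈ N)
    (hfull : N * N ≤ N.map (LinearMap.mulLeft k a) ⊔ ker N lam m 2)
    (h3 : N ^ 3 ≤ comm2 N ⊔ ker N lam m 3) :
    Module.finrank k (Layer1 N lam m) = 2 ∧ ∃ x ∈ N, ∃ y ∈ N,
      x * x ∈ ker N lam m 2 ∧ y * y ∈ ker N lam m 2 ∧
      N ≤ Submodule.span k {x} ⊔ Submodule.span k {y} ⊔ ker N lam m 1 := by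
  classical
  let e := LinearEquiv.ofBijective (mul₂ h (cls ha)) (mul₂_bijective h ha hfull (by omega))
  let φ : Layer1 N lam m →ₗ[k] Layer1 N lam m →ₗ[k] Layer1 N lam m :=
    (mul₂ h).compr₂ e.symm.toLinearMap
  have hspec : ∀ {x y : R} (hx : x ∈ N) (hy : y ∈ N), ∃ r, ∃ hr : r ∈ N,
      φ (cls hx) (cls hy) = cls hr ∧ x * y - a * r ∈ ker N lam m 2 := by
    intro x y hx hy
    obtain ⟨r, hr, he⟩ := exists_cls (φ (cls hx) (cls hy))
    refine ⟨r, hr, he.symm, (cls₂_eq (Submodule.mul_mem_mul hx hy)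
      (Submodule.mul_mem_mul ha hr)).1 ?_⟩
    rw [← mul₂_cls h hx hy, ← mul₂_cls h ha hr, he]
    exact (e.apply_symm_apply _).symm
  have hone : ∀ v, φ (cls ha) v = v := fun v => e.symm_apply_apply v
  set σ := φ.flip (cls ha) with hσdef
  have hσa : σ (cls ha) = cls ha := hone _
  have hassoc : ∀ u v w, φ (φ u v) w = φ (σ u) (φ v w) := by
    intro u v w
    obtain ⟨x, hx, rfl⟩ := exists_cls u
    obtain ⟨y, hy, rfl⟩ := exists_cls v
    obtain ⟨z, hz, rfl⟩ := exists_cls w
    obtain ⟨r₁, hr₁, e₁, g₁⟩ := hspec hx hy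
    obtain ⟨s, hs, e₂, g₂⟩ := hspec hr₁ hz
    obtain ⟨t, ht, e₃, g₃⟩ := hspec hx ha
    obtain ⟨r₂, hr₂, e₄, g₄⟩ := hspec hy hz
    obtain ⟨o, ho, e₅, g₅⟩ := hspec ht hr₂
    show φ (φ (cls hx) (cls hy)) (cls hz) = φ (φ (cls hx) (cls ha)) (φ (cls hy) (cls hz))
    rw [e₁, e₂, e₃, e₄, e₅, cls_eq]
    refine mem_of_pow_mul_mem h ha hfull (by omega) (i := 2) (by omega) (sub_mem hs ho) ?_
    rw [show a ^ 2 * (s - o) = (x * (y * z - a * r₂) + (x * a - a * t) * r₂ + a * (t * r₂ - a * o))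
        - ((x * y - a * r₁) * z + a * (r₁ * z - a * s)) by rw [pow_two]; noncomm_ring]
    exact sub_mem (add_mem (add_mem (h.mul_ker (mem_pow_one hx) g₄ rfl)
      (h.ker_mul g₃ (mem_pow_one hr₂) rfl)) (h.mul_ker (mem_pow_one ha) g₅ rfl))
      (add_mem (h.ker_mul g₁ (mem_pow_one hz) rfl) (h.mul_ker (mem_pow_one ha) g₂ rfl))
  have hσinj : Function.Injective σ := by
    refine (injective_iff_map_eq_zero σ).2 fun v hv => ?_
    obtain ⟨x, hx, rfl⟩ := exists_cls v
    have h0 : mul₂ h (cls hx) (cls ha) = 0 := e.symm.map_eq_zero_iff.1 hv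
    rw [mul₂_cls, cls₂_eq_zero] at h0
    refine (cls_eq_zero hx).2 (left_nondeg h ha hfull (by omega) hx fun y hy => ?_)
    rw [show m - 2 = (m - 3) + 1 by omega, pow_succ', ← mul_assoc, mul_assoc _ (a ^ (m - 3))]
    refine h0.2 _ ?_
    have := mul_mem_pow (pow_mem ha (m - 3)) (mem_pow_one hy)
    rwa [show m - 3 + 1 = m - 2 by omega] at this
  have hσbij : Function.Bijective σ := ⟨hσinj, LinearMap.injective_iff_surjective.1 hσinj⟩
  let σe := LinearEquiv.ofBijective σ hσbij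
  -- the functional
  let l₀ : ↥N →ₗ[k] k := (lam.comp (LinearMap.mulLeft k (a ^ (m - 1)))).comp N.subtype
  let l : Layer1 N lam m →ₗ[k] k := ((ker N lam m 1).comap N.subtype).liftQ l₀ fun x hx =>
    LinearMap.mem_ker.2 (by
      show lam (a ^ (m - 1) * (x : R)) = 0
      rw [h.cyc]; exact hx.2 _ (pow_mem ha _))
  have hlcls : ∀ {x : R} (hx : x ∈ N), l (cls hx) = lam (a ^ (m - 1) * x) := fun _ => rfl
  have hlσ : ∀ v, l (σ v) = l v := by
    intro v
    obtain ⟨x, hx, rfl⟩ := exists_cls v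
    obtain ⟨t, ht, e₁, g₁⟩ := hspec hx ha
    show l (φ (cls hx) (cls ha)) = _
    rw [e₁, hlcls, hlcls, show m - 1 = m - 2 + 1 by omega]
    have h0 : lam (a ^ (m - 2) * (x * a - a * t)) = 0 := by
      rw [h.cyc]; exact g₁.2 _ (pow_mem ha _)
    rw [mul_sub, map_sub, sub_eq_zero, ← mul_assoc, ← mul_assoc, h.cyc _ a, ← mul_assoc] at h0
    rw [← pow_succ, ← pow_succ'] at h0
    exact h0.symm
  have hl0 : l ≠ 0 := by
    intro hl0
    have hak : a ∈ ker N lam m 1 := right_nondeg h ha hfull (by omega) ha fun x hx => by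
      have h1 : lam (a ^ (m - 1) * x) = 0 := by rw [← hlcls hx, hl0]; rfl
      rw [mul_assoc, ← pow_succ, h.cyc, show m - 2 + 1 = m - 1 by omega]
      exact h1
    refine h.not_pow_le_ker (j := 2) (by omega) ?_
    rw [pow_two]
    refine hfull.trans (sup_le ?_ le_rfl)
    rintro _ ⟨y, hy, rfl⟩
    exact h.ker_mul hak (mem_pow_one hy) rfl
  -- the twisted commutators span
  set S : Submodule k (Layer1 N lam m) := Submodule.span k
    {z | ∃ x y, z = φ (σ x) y - φ y x} with hS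
  have hStop : ⊤ ≤ S := by
    set S' := (S.comap ((ker N lam m 1).comap N.subtype).mkQ).map N.subtype with hS'
    have hc : comm2 N ≤ S'.map (LinearMap.mulLeft k (a ^ 2)) ⊔ ker N lam m 3 := by
      refine Submodule.span_le.2 ?_
      rintro _ ⟨x, hx, q, hq, rfl⟩
      obtain ⟨_, ⟨r, hr, rfl⟩, k₀, hk₀, hq'⟩ := Submodule.mem_sup.1 (hfull hq)
      obtain ⟨t, ht, e₁, g₁⟩ := hspec hx ha
      obtain ⟨o, ho, e₂, g₂⟩ := hspec ht hr
      obtain ⟨o', ho', e₃, g₃⟩ := hspec hr hx
      rw [LinearMap.mulLeft_apply] at hq'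
      subst hq'
      rw [SetLike.mem_coe, show x * (a * r + k₀) - (a * r + k₀) * x = a ^ 2 * (o - o') +
        ((x * k₀ - k₀ * x) + (x * a - a * t) * r + a * (t * r - a * o) - a * (r * x - a * o')) by
        rw [pow_two]; noncomm_ring]
      refine Submodule.add_mem_sup ⟨o - o', ⟨⟨o - o', sub_mem ho ho'⟩, ?_, rfl⟩, rfl⟩ ?_
      · refine Submodule.subset_span ⟨cls hx, cls hr, ?_⟩
        show cls (sub_mem ho ho') = φ (φ (cls hx) (cls ha)) (cls hr) - φ (cls hr) (cls hx)
        rw [e₁, e₂, e₃]; rfl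
      · exact sub_mem (add_mem (add_mem (sub_mem (h.mul_ker (mem_pow_one hx) hk₀ rfl)
          (h.ker_mul hk₀ (mem_pow_one hx) rfl)) (h.ker_mul g₁ (mem_pow_one hr) rfl))
          (h.mul_ker (mem_pow_one ha) g₂ rfl)) (h.mul_ker (mem_pow_one ha) g₃ rfl)
    intro v _
    obtain ⟨r₀, hr₀, rfl⟩ := exists_cls v
    obtain ⟨_, ⟨r, ⟨⟨r', hr'⟩, hrS, rfl⟩, rfl⟩, k₁, hk₁, he⟩ := Submodule.mem_sup.1
      ((h3.trans (sup_le hc le_sup_right)) (mul_mem_pow (pow_mem ha 2) (mem_pow_one hr₀)))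
    have : cls hr₀ = (cls hr' : Layer1 N lam m) := (cls_eq _ _).2
      (mem_of_pow_mul_mem h ha hfull (by omega) (i := 2) (by omega) (sub_mem hr₀ hr') (by
        rw [mul_sub, ← he]
        simp only [LinearMap.mulLeft_apply, Submodule.coe_subtype, add_sub_cancel_left]
        exact hk₁))
    rw [this]
    exact hrS
  obtain ⟨h2, u, v, hu, hv, hspan⟩ := pair_of_product hd φ (cls ha) σe (fun _ => rfl) hone
    hassoc l hlσ hl0 hStop
  refine ⟨h2, ?_⟩
  obtain ⟨x, hx, rfl⟩ := exists_cls u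
  obtain ⟨y, hy, rfl⟩ := exists_cls v
  refine ⟨x, hx, y, hy, ?_, ?_, fun z hz => ?_⟩
  · rw [← cls₂_eq_zero (Submodule.mul_mem_mul hx hx), ← mul₂_cls h hx hx]
    exact e.symm.map_eq_zero_iff.1 hu
  · rw [← cls₂_eq_zero (Submodule.mul_mem_mul hy hy), ← mul₂_cls h hy hy]
    exact e.symm.map_eq_zero_iff.1 hv
  obtain ⟨s, t, hst⟩ := Submodule.mem_span_pair.1 (hspan (Submodule.mem_top (x := cls hz)))
  have hd' : z - (s • x + t • y) ∈ ker N lam m 1 :=
    (cls_eq hz (add_mem (N.smul_mem s hx) (N.smul_mem t hy))).1 hst.symm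
  rw [show z = s • x + t • y + (z - (s • x + t • y)) by abel]
  exact Submodule.add_mem_sup (Submodule.add_mem_sup
    (Submodule.smul_mem _ s (Submodule.mem_span_singleton_self x))
    (Submodule.smul_mem _ t (Submodule.mem_span_singleton_self y))) hd'

end CfsgLib.SmallBlock.Five
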