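import Cfsg.Agent.SmallBlock.Five.Pairing

/-!
# Generators modulo the trace kernel
-/

set_option autoImplicit false
set_option linter.unusedSectionVars false

namespace CfsgLib.SmallBlock.Five

variable {k R : Type*} [Field k] [Ring R] [Algebra k R] {N : Submodule k R} {lam : R →ₗ[k] k} {m : ℕ}

theorem finrank_lt_sup_span [FiniteDimensional k R] {W : Submodule k R} {x : R} (hx : x ∉ W) :
    Module.finrank k W < Module.finrank k ↥(W ⊔ Submodule.span k {x}) :=
  Submodule.finrank_lt_finrank_of_lt (lt_of_le_not_ge le_sup_left fun hle =>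
    hx (hle (Submodule.mem_sup_right (Submodule.mem_span_singleton_self x))))

theorem IsTraceData.exists_top (h : IsTraceData N lam m) : ∃ s ∈ N ^ m, lam s ≠ 0 := by
  obtain ⟨s, hs, hs0⟩ := Submodule.exists_mem_ne_zero_of_ne_bot h.ne
  exact ⟨s, hs, fun h0 => hs0 (h.inj s hs h0)⟩

theorem IsTraceData.pow_top_le [FiniteDimensional k R] (h : IsTraceData N lam m) {s : R}
    (hs : s ∈ N ^ m) (hs0 : lam s ≠ 0) : N ^ m ≤ Submodule.span k {s} := fun z hz => by
  refine Submodule.mem_span_singleton.2 ⟨lam z / lam s, (sub_eq_zero.1 (h.inj _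
    (sub_mem hz (Submodule.smul_mem _ _ hs)) ?_)).symm⟩
  rw [map_sub, map_smul, smul_eq_mul, div_mul_cancel₀ _ hs0, sub_self]

theorem IsTraceData.pow_le_pow_sup (h : IsTraceData N lam m) {S : Submodule k R} (hS : S ≤ N)
    (hgen : N ≤ S ⊔ ker N lam m 1) (j : ℕ) :
    N ^ (j + 1) ≤ S ^ (j + 1) ⊔ ker N lam m (j + 1) := by
  induction j with
  | zero => simpa using hgen
  | succ j ih =>
    rw [pow_succ N]
    refine Submodule.mul_le.2 fun z hz w hw => ?_
    obtain ⟨p, hp, r, hr, rfl⟩ := Submodule.mem_sup.1 (ih hz)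
    obtain ⟨q, hq, r', hr', he⟩ := Submodule.mem_sup.1 (hgen hw)
    rw [show (p + r) * w = p * q + (p * r' + r * w) by rw [← he]; noncomm_ring]
    refine Submodule.add_mem_sup (by rw [pow_succ S]; exact Submodule.mul_mem_mul hp hq) ?_
    exact add_mem (h.mul_ker ((pow_le_pow_left' hS (j + 1)) hp) hr' rfl)
      (h.ker_mul hr (mem_pow_one hw) rfl)

/-- If the products of two generators lie on the line of their commutator modulo `L₂`, the
commutator times either generator is in `L₃`. -/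
theorem comm_mul_mem {L₂ L₃ : Submodule k R} {x y : R}
    (hr : ∀ {z w : R}, z ∈ L₂ → w ∈ N → z * w ∈ L₃) (hl : ∀ {z w : R}, z ∈ N → w ∈ L₂ → z * w ∈ L₃)
    (hx : x ∈ N) (hy : y ∈ N)
    (hcoef : ∀ u ∈ N, ∀ v ∈ N, ∃ β : k, u * v - β • (x * y - y * x) ∈ L₂) :
    (x * y - y * x) * x ∈ L₃ ∧ (x * y - y * x) * y ∈ L₃ := by
  obtain ⟨c, hc⟩ : ∃ c, c = x * y - y * x := ⟨_, rfl⟩
  rw [← hc] at hcoef ⊢
  obtain ⟨a, ha⟩ := hcoef x hx x hx
  obtain ⟨b, hb⟩ := hcoef x hx y hy
  obtain ⟨e, he⟩ := hcoef y hy y hy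
  have hb' : y * x - (b - 1) • c ∈ L₂ := by
    have : y * x - (b - 1) • c = x * y - b • c := by rw [sub_smul, one_smul, hc]; abel
    rwa [this]
  have key : ∀ {u v w : R}, u ∈ N → w ∈ N → ∀ β γ : k, u * v - β • c ∈ L₂ →
      v * w - γ • c ∈ L₂ → β • (c * w) - γ • (u * c) ∈ L₃ := by
    intro u v w hu hw β γ h1 h2
    have : β • (c * w) - γ • (u * c) = u * (v * w - γ • c) - (u * v - β • c) * w := by
      rw [mul_sub, sub_mul, mul_smul_comm, smul_mul_assoc, mul_assoc]; abel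
    rw [this]
    exact sub_mem (hl hu h2) (hr h1 hw)
  have h2 := key hx hy a b ha hb
  have h3 := key hx hx b (b - 1) hb hb'
  have h4 := key hx hy b e hb he
  have h5 := key hy hy (b - 1) b hb' hb
  have h6 := key hy hx (b - 1) a hb' ha
  have h1 := key hx hx a a ha ha
  have hcancel : ∀ {r : k} {z : R}, r ≠ 0 → r • z ∈ L₃ → z ∈ L₃ := fun hr0 h =>
    (Submodule.smul_mem_iff L₃ hr0).1 h
  by_cases ha0 : a = 0
  · simp only [ha0, zero_smul, zero_sub, sub_zero, neg_mem_iff] at h2 h6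
    by_cases hb0 : b = 0
    · simp only [hb0, zero_smul, zero_sub, sub_zero, neg_smul, one_smul, neg_mem_iff] at h5 h6
      exact ⟨h6, h5⟩
    · have hR := hcancel hb0 h2
      refine ⟨hcancel hb0 ?_, hcancel hb0 ?_⟩
      · simpa using add_mem h3 (L₃.smul_mem (b - 1) hR)
      · simpa using add_mem h4 (L₃.smul_mem e hR)
  · have hd : c * x - x * c ∈ L₃ := hcancel ha0 (by rwa [smul_sub])
    have hR : x * c ∈ L₃ := by
      have : x * c = (b • (c * x) - (b - 1) • (x * c)) - b • (c * x - x * c) := by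
        rw [sub_smul, one_smul, smul_sub]; abel
      rw [this]
      exact sub_mem h3 (L₃.smul_mem b hd)
    refine ⟨by simpa using add_mem hd hR, hcancel ha0 ?_⟩
    simpa using add_mem h2 (L₃.smul_mem b hR)

theorem IsTraceData.false_of_comm_line (h : IsTraceData N lam m) (hm : 3 ≤ m) {x y : R}
    (hx : x ∈ N) (hy : y ∈ N)
    (hgen : N ≤ Submodule.span k {x} ⊔ Submodule.span k {y} ⊔ ker N lam m 1)
    (hsq : N * N ≤ Submodule.span k {x * y - y * x} ⊔ ker N lam m 2) : False := by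
  have hc2 : x * y - y * x ∈ N ^ 2 := by
    rw [pow_two]; exact sub_mem (Submodule.mul_mem_mul hx hy) (Submodule.mul_mem_mul hy hx)
  obtain ⟨hcx, hcy⟩ := comm_mul_mem (L₂ := ker N lam m 2) (L₃ := ker N lam m 3)
    (fun hz hw => h.ker_mul hz (mem_pow_one hw) rfl)
    (fun hz hw => h.mul_ker (mem_pow_one hz) hw rfl) hx hy fun u hu v hv => by
      obtain ⟨z, hz, t, ht, hzt⟩ := Submodule.mem_sup.1 (hsq (Submodule.mul_mem_mul hu hv))
      obtain ⟨β, rfl⟩ := Submodule.mem_span_singleton.1 hz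
      exact ⟨β, by rw [← hzt]; simpa using ht⟩
  refine h.not_pow_le_ker hm ?_
  rw [pow_succ, pow_two]
  refine Submodule.mul_le.2 fun z hz w hw => ?_
  obtain ⟨z₁, hz₁, z₂, hz₂, rfl⟩ := Submodule.mem_sup.1 (hsq hz)
  obtain ⟨γ, rfl⟩ := Submodule.mem_span_singleton.1 hz₁
  rw [add_mul, smul_mul_assoc]
  refine add_mem (Submodule.smul_mem _ γ ?_) (h.ker_mul hz₂ (mem_pow_one hw) rfl)
  obtain ⟨w₁, hw₁, w₂, hw₂, rfl⟩ := Submodule.mem_sup.1 (hgen hw)
  obtain ⟨u, hu, v, hv, rfl⟩ := Submodule.mem_sup.1 hw₁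
  obtain ⟨α, rfl⟩ := Submodule.mem_span_singleton.1 hu
  obtain ⟨δ, rfl⟩ := Submodule.mem_span_singleton.1 hv
  rw [mul_add, mul_add, mul_smul_comm, mul_smul_comm]
  exact add_mem (add_mem (Submodule.smul_mem _ α hcx) (Submodule.smul_mem _ δ hcy))
    (h.mul_ker hc2 hw₂ rfl)

end CfsgLib.SmallBlock.Five
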