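import Cfsg.Agent.InertialQuotient.MasterSum
import Cfsg.Agent.InertialQuotient.Watanabe

/-!
# Orbits of the stabilizer on an abelian defect group of order eight

The orbit lengths are odd, so either everything is fixed, or two elements are fixed and the other
orbits have length three, or only the identity is fixed and the action is transitive on the rest.
-/

set_option autoImplicit false
set_option linter.unusedSectionVars false
set_option linter.style.haveILetI false

namespace CfsgLib.SmallBlock.Five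

open Cfsg CfsgLib.BlockPairs CfsgLib.InertialQuotient CfsgLib.Star
open CfsgLib.Blocks (Res)

universe u

variable {G : Type u} [Group G]

/-- The orbit length divides the index of a subgroup of the point stabilizer. -/
theorem ocard_dvd_index {T : Subgroup G} {w : G} {N : Subgroup T}
    (hN : ∀ t ∈ N, (t : G) * w * (t : G)⁻¹ = w) : ocard T w ∣ N.index := by
  set S := (Subgroup.centralizer ({w} : Set G)).subgroupOf T
  have hmem : ∀ t : T, t ∈ S ↔ (t : G) * w * (t : G)⁻¹ = w := fun t => by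
    rw [Subgroup.mem_subgroupOf, Subgroup.mem_centralizer_singleton_iff, mul_inv_eq_iff_eq_mul]
  have hle : N ≤ S := fun t ht => (hmem t).2 (hN t ht)
  let f : T ⧸ S → orb T w := Quotient.lift (fun t : T => ⟨(t : G) * w * (t : G)⁻¹, t, t.2, rfl⟩)
    fun a b hab => by
      have h := (hmem _).1 (QuotientGroup.leftRel_apply.1 hab)
      push_cast at h
      refine Subtype.ext ?_
      show (a : G) * w * (a : G)⁻¹ = b * w * (b : G)⁻¹
      conv_lhs => rw [← h]
      group
  have hf : Function.Bijective f := by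
    refine ⟨?_, ?_⟩
    · rintro ⟨a⟩ ⟨b⟩ hab
      refine Quotient.sound (QuotientGroup.leftRel_apply.2 ((hmem _).2 ?_))
      have h : (a : G) * w * (a : G)⁻¹ = b * w * (b : G)⁻¹ := congrArg Subtype.val hab
      push_cast
      calc (a : G)⁻¹ * b * w * ((a : G)⁻¹ * b)⁻¹ = (a : G)⁻¹ * (b * w * (b : G)⁻¹) * a := by group
        _ = w := by rw [← h]; group
    · rintro ⟨v, t, ht, rfl⟩
      exact ⟨QuotientGroup.mk ⟨t, ht⟩, rfl⟩
  rw [ocard, ← Nat.card_eq_of_bijective f hf, ← Subgroup.index_eq_card]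
  exact Subgroup.index_dvd_of_le hle

variable [Fintype G] {P : Subgroup G}

open Classical in
/-- The three shapes of an action with odd orbits on eight points. -/
theorem orbit_shapes (hP : Nat.card P = 8) (T : Subgroup G)
    (hT : ∀ t ∈ T, ∀ w ∈ P, t * w * t⁻¹ ∈ P) (hodd : ∀ w ∈ P, ocard T w % 2 = 1) :
    (∀ t ∈ T, ∀ w : P, t * (w : G) * t⁻¹ = w) ∨
    (∃ f : P, f ≠ 1 ∧ (∀ t ∈ T, t * (f : G) * t⁻¹ = f) ∧
      ∀ w : P, w ≠ 1 → w ≠ f → ocard T (w : G) = 3) ∨
    (∀ w : P, w ≠ 1 → ocard T (w : G) = 7) := by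
  let Fs : Subgroup P :=
    { carrier := {w | ∀ t ∈ T, t * (w : G) * t⁻¹ = w}
      mul_mem' := fun {a b} ha hb t ht => by
        push_cast
        rw [show t * ((a : G) * b) * t⁻¹ = t * a * t⁻¹ * (t * b * t⁻¹) by group, ha t ht, hb t ht]
      one_mem' := fun t _ => by simp
      inv_mem' := fun {a} ha t ht => by
        push_cast
        rw [show t * (a : G)⁻¹ * t⁻¹ = (t * a * t⁻¹)⁻¹ by group, ha t ht] }
  let O : P → Finset P := fun w => Finset.univ.filter fun v => (v : G) ∈ orb T (w : G)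
  set out : Finset P := Finset.univ.filter fun w => w ∉ Fs with hout
  have hO : ∀ w : P, (O w).card = ocard T (w : G) := by
    intro w
    rw [ocard, ← Fintype.card_subtype, ← Nat.card_eq_fintype_card]
    exact Nat.card_congr
      { toFun := fun v => ⟨(v.1 : G), v.2⟩
        invFun := fun v => ⟨⟨v, by obtain ⟨t, ht, he⟩ := v.2; rw [← he]; exact hT t ht w w.2⟩, v.2⟩
        left_inv := fun v => rfl
        right_inv := fun v => rfl }
  have hsub : ∀ w ∈ out, O w ⊆ out := by
    intro w hw v hv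
    refine Finset.mem_filter.2 ⟨Finset.mem_univ _, fun hvF => (Finset.mem_filter.1 hw).2 ?_⟩
    obtain ⟨t, ht, he⟩ := (Finset.mem_filter.1 hv).2
    intro s hs
    have h1 := hvF t⁻¹ (inv_mem ht)
    have h2 : (w : G) = v := by
      calc (w : G) = t⁻¹ * (t * w * t⁻¹) * t := by group
        _ = (v : G) := by rw [he]; simpa using h1
    rw [h2]; exact hvF s hs
  have h3 : ∀ w ∈ out, 3 ≤ ocard T (w : G) := by
    intro w hw
    have h1 : ocard T (w : G) ≠ 1 := fun h1 => (Finset.mem_filter.1 hw).2 fun t ht => by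
      haveI := (Nat.card_eq_one_iff_unique.1 h1).1
      exact congrArg Subtype.val (Subsingleton.elim (⟨t * w * t⁻¹, t, ht, rfl⟩ : orb T (w : G))
        ⟨(w : G), mem_orb_self _ _⟩)
    have := hodd w w.2
    omega
  have hdis : ∀ w v : P, v ∉ O w → Disjoint (O w) (O v) := fun w v hv =>
    Finset.disjoint_left.2 fun x hx hx' => hv (Finset.mem_filter.2 ⟨Finset.mem_univ _, by
      rw [← orb_eq_of_mem (Finset.mem_filter.1 hx).2, orb_eq_of_mem (Finset.mem_filter.1 hx').2]
      exact mem_orb_self _ _⟩)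
  have hcard : out.card + Nat.card Fs = 8 := by
    rw [← hP, Nat.card_eq_fintype_card, Nat.card_eq_fintype_card, Fintype.card_subtype, hout,
      add_comm, Finset.card_filter_add_card_filter_not, Finset.card_univ]
  have hle1 : ∀ w ∈ out, ocard T (w : G) ≤ out.card := fun w hw =>
    (hO w).symm.trans_le (Finset.card_le_card (hsub w hw))
  have hle2 : ∀ w ∈ out, ∀ v ∈ out, v ∉ O w →
      ocard T (w : G) + ocard T (v : G) ≤ out.card := fun w hw v hv hvw => by
    rw [← hO, ← hO, ← Finset.card_union_of_disjoint (hdis w v hvw)]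
    exact Finset.card_le_card (Finset.union_subset (hsub w hw) (hsub v hv))
  have hnext : ∀ w ∈ out, ocard T (w : G) < out.card → ∃ v ∈ out, v ∉ O w := fun w hw hlt =>
    Finset.exists_mem_notMem_of_card_lt_card (hO w ▸ hlt)
  have hF : Nat.card Fs = 1 ∨ Nat.card Fs = 2 ∨ Nat.card Fs = 4 ∨ Nat.card Fs = 8 := by
    have hd : Nat.card Fs ∣ 2 ^ 3 := (Subgroup.card_subgroup_dvd_card Fs).trans (by rw [hP]; norm_num)
    obtain ⟨i, hi, hi'⟩ := (Nat.dvd_prime_pow Nat.prime_two).1 hd
    rw [hi']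
    interval_cases i <;> simp
  have hfix : ∀ {w : P}, w ∉ out → ∀ t ∈ T, t * (w : G) * t⁻¹ = w := fun hw => by
    by_contra h
    exact hw (Finset.mem_filter.2 ⟨Finset.mem_univ _, h⟩)
  rcases hF with h1 | h2 | h4 | h8
  · refine Or.inr (Or.inr fun w hw1 => ?_)
    have hw : w ∈ out := Finset.mem_filter.2 ⟨Finset.mem_univ _, fun hwF => hw1 (by
      haveI := (Nat.card_eq_one_iff_unique.1 h1).1
      exact congrArg Subtype.val (Subsingleton.elim (⟨w, hwF⟩ : Fs) 1))⟩
    by_contra h7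
    obtain ⟨v, hv, hvw⟩ := hnext w hw (by
      have := hle1 w hw
      have := hodd w w.2
      omega)
    have hwv := hle2 w hw v hv hvw
    have := h3 w hw
    have := h3 v hv
    have := hodd w w.2
    have := hodd v v.2
    have hw3 : ocard T (w : G) = 3 ∧ ocard T (v : G) = 3 := by omega
    have hu : (O w ∪ O v).card < out.card := by
      rw [Finset.card_union_of_disjoint (hdis w v hvw), hO, hO]
      omega
    obtain ⟨z, hz, hzn⟩ := Finset.exists_mem_notMem_of_card_lt_card hu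
    rw [Finset.mem_union, not_or] at hzn
    have := h3 z hz
    have hall : (O w ∪ O v ∪ O z).card ≤ out.card := Finset.card_le_card
      (Finset.union_subset (Finset.union_subset (hsub w hw) (hsub v hv)) (hsub z hz))
    rw [Finset.card_union_of_disjoint (Finset.disjoint_union_left.2
      ⟨hdis w z hzn.1, hdis v z hzn.2⟩), Finset.card_union_of_disjoint (hdis w v hvw), hO, hO,
      hO] at hall
    omega
  · haveI : Nontrivial Fs := Finite.one_lt_card_iff_nontrivial.1 (by omega)
    obtain ⟨⟨f, hf⟩, hf1⟩ := exists_ne (1 : Fs)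
    refine Or.inr (Or.inl ⟨f, fun h => hf1 (Subtype.ext h), hf, fun w hw1 hwf => ?_⟩)
    have hw : w ∈ out := Finset.mem_filter.2 ⟨Finset.mem_univ _, fun hwF => by
      obtain ⟨a, -, huniq⟩ := Nat.card_eq_two_iff' (1 : Fs) |>.1 h2
      have e1 := huniq ⟨f, hf⟩ hf1
      have e2 := huniq ⟨w, hwF⟩ (fun h => hw1 (congrArg Subtype.val h))
      exact hwf (congrArg Subtype.val (e2.trans e1.symm))⟩
    by_contra h3'
    have := h3 w hw
    have := hle1 w hw
    have := hodd w w.2
    obtain ⟨v, hv, hvw⟩ := hnext w hw (by omega)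
    have := hle2 w hw v hv hvw
    have := h3 v hv
    omega
  · exfalso
    obtain ⟨w, hw⟩ : out.Nonempty := Finset.card_pos.1 (by omega)
    have := h3 w hw
    have := hle1 w hw
    have := hodd w w.2
    obtain ⟨v, hv, hvw⟩ := hnext w hw (by omega)
    have := hle2 w hw v hv hvw
    have := h3 v hv
    omega
  · refine Or.inl fun t ht w => hfix (fun hw => ?_) t ht
    have := Finset.card_pos.2 ⟨w, hw⟩
    omega

variable {M : Ideal AlgInt} [M.IsPrime] {p : ℕ} [hp : Fact p.Prime] [CharP (Res M) p]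
  [IsAlgClosed (Res M)] {B : Set (IrrCharacter G)} {eP : GA (Res M) G}

/-- An element fixed by the stabilizer gives a nontrivial invariant linear character. -/
theorem exists_invariant_char (hB : Cfsg.IsPBlock M B) (hmax : IsMaxPair p ⊤ (gblk M B) P eP)
    (hab : P ≤ Subgroup.centralizer (P : Set G)) {f : P} (hf : f ≠ 1)
    (hfix : ∀ t ∈ stab ⊤ P eP, t * (f : G) * t⁻¹ = f) :
    ∃ l : P →* ℂˣ, l ≠ 1 ∧ ∀ t ∈ stab ⊤ P eP, ∀ w ∈ P, lext l (t * w * t⁻¹) = lext l w := by
  classical
  letI : CommGroup P := { (inferInstance : Group P) with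
    mul_comm := fun a b => Subtype.ext (Subgroup.mem_centralizer_iff.1 (hab b.2) a a.2) }
  haveI : NeZero (Monoid.exponent P : ℂ) :=
    ⟨Nat.cast_ne_zero.2 Monoid.exponent_ne_zero_of_finite⟩
  obtain ⟨mu, hmu⟩ := CommGroup.exists_apply_ne_one_of_hasEnoughRootsOfUnity P ℂ hf
  set T := stab ⊤ P eP with hT
  set N := (Subgroup.centralizer (P : Set G)).subgroupOf T with hN
  haveI := Fintype.ofFinite (T ⧸ N)
  have hmem : ∀ (t : T) (w : P), (t : G)⁻¹ * (w : G) * t ∈ P := fun t w => by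
    have h := (Subgroup.mem_normalizer_iff.1 (inv_mem (stab_le_normalizer t.2)) (w : G)).1 w.2
    simpa using h
  let c : T → P → P := fun t w => ⟨(t : G)⁻¹ * (w : G) * t, hmem t w⟩
  have hcmul : ∀ t w w', c t (w * w') = c t w * c t w' := fun t w w' => Subtype.ext (by
    show (t : G)⁻¹ * ((w : G) * w') * t = (t : G)⁻¹ * w * t * ((t : G)⁻¹ * w' * t)
    group)
  let l : P →* ℂˣ := MonoidHom.mk' (fun w => ∏ q : T ⧸ N, mu (c q.out w)) fun w w' => by
    rw [← Finset.prod_mul_distrib]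
    exact Finset.prod_congr rfl fun q _ => by simp only [hcmul, map_mul]
  have hl : ∀ w, l w = ∏ q : T ⧸ N, mu (c q.out w) := fun w => rfl
  have hcinv : ∀ (a b : T), (QuotientGroup.mk a : T ⧸ N) = QuotientGroup.mk b →
      ∀ w, c a w = c b w := by
    intro a b hab' w
    have h : ((a⁻¹ * b : T) : G) ∈ Subgroup.centralizer (P : Set G) :=
      Subgroup.mem_subgroupOf.1 (QuotientGroup.eq.1 hab')
    have hcw := Subgroup.mem_centralizer_iff.1 h _ (hmem a w)
    push_cast at hcw
    refine Subtype.ext ?_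
    show (a : G)⁻¹ * (w : G) * a = (b : G)⁻¹ * (w : G) * b
    calc (a : G)⁻¹ * (w : G) * a
        = ((a : G)⁻¹ * b)⁻¹ * ((a : G)⁻¹ * b * ((a : G)⁻¹ * (w : G) * a)) := by group
      _ = ((a : G)⁻¹ * b)⁻¹ * ((a : G)⁻¹ * (w : G) * a * ((a : G)⁻¹ * b)) := by rw [hcw]
      _ = (b : G)⁻¹ * (w : G) * b := by group
  refine ⟨l, fun h1 => hmu ?_, fun t ht w hw => ?_⟩
  · have hlf : l f = mu f ^ N.index := by
      rw [hl, Subgroup.index_eq_card, Nat.card_eq_fintype_card, ← Finset.card_univ,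
        ← Finset.prod_const]
      refine Finset.prod_congr rfl fun q _ => congrArg mu (Subtype.ext ?_)
      have h := hfix _ (inv_mem (q.out : T).2)
      rw [inv_inv] at h
      exact h
    rw [h1] at hlf
    refine orderOf_eq_one_iff.1 ?_
    obtain ⟨j, hj⟩ := hmax.1.1.2.1 f
    obtain ⟨i, -, hi⟩ := (Nat.dvd_prime_pow hp.out).1
      (orderOf_dvd_of_pow_eq_one (x := mu f) (n := p ^ j) (by rw [← map_pow, hj, map_one]))
    rcases i with _ | i
    · rwa [pow_zero] at hi
    · exact absurd ((dvd_pow_self p i.succ_ne_zero).trans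
        (hi ▸ orderOf_dvd_of_pow_eq_one (show mu f ^ N.index = 1 from hlf.symm)))
        (not_dvd_inertial hB hmax hab)
  · have htw : t * w * t⁻¹ ∈ P :=
      (Subgroup.mem_normalizer_iff.1 (stab_le_normalizer ht) w).1 hw
    rw [show lext l (t * w * t⁻¹) = (l ⟨_, htw⟩ : ℂ) from dif_pos htw,
      show lext l w = (l ⟨w, hw⟩ : ℂ) from dif_pos hw, hl, hl]
    refine congrArg Units.val (Fintype.prod_equiv
      (MulAction.toPerm (⟨t, ht⟩ : T)⁻¹) _ _ fun q => ?_)
    simp only [MulAction.toPerm_apply]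
    refine congrArg mu ?_
    have e1 : c q.out ⟨t * w * t⁻¹, htw⟩ = c ((⟨t, ht⟩ : T)⁻¹ * q.out) ⟨w, hw⟩ := by
      refine Subtype.ext ?_
      simp only [c]
      push_cast
      group
    rw [e1]
    refine hcinv _ _ ?_ _
    conv_rhs => rw [QuotientGroup.out_eq', ← QuotientGroup.out_eq' q]
    exact (MulAction.Quotient.smul_mk (H := N) (⟨t, ht⟩ : T)⁻¹ q.out).symm

/-- An invariant linear character of order two. -/
theorem exists_invariant_sign (hB : Cfsg.IsPBlock M B) (hmax : IsMaxPair 2 ⊤ (gblk M B) P eP)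
    [CharP (Res M) 2] (hab : P ≤ Subgroup.centralizer (P : Set G)) {f : P} (hf : f ≠ 1)
    (hfix : ∀ t ∈ stab ⊤ P eP, t * (f : G) * t⁻¹ = f) :
    ∃ l : P →* ℂˣ, l ≠ 1 ∧ (∀ t ∈ stab ⊤ P eP, ∀ w ∈ P, lext l (t * w * t⁻¹) = lext l w) ∧
      ∀ w, (l w : ℂ) = 1 ∨ (l w : ℂ) = -1 := by
  haveI : Fact (Nat.Prime 2) := ⟨Nat.prime_two⟩
  obtain ⟨l, hl1, hl⟩ := exists_invariant_char hB hmax hab hf hfix
  obtain ⟨j, hj⟩ := IsPGroup.iff_card.1 hmax.1.1.2.1
  have hex : ∃ i, l ^ 2 ^ i = 1 := ⟨j, MonoidHom.ext fun w => by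
    rw [MonoidHom.pow_apply, ← map_pow, ← hj, pow_card_eq_one', map_one, MonoidHom.one_apply]⟩
  classical
  obtain ⟨i, hi⟩ : ∃ i, Nat.find hex = i + 1 := ⟨Nat.find hex - 1, by
    have : Nat.find hex ≠ 0 := fun h0 => hl1 (by simpa [h0] using Nat.find_spec hex)
    omega⟩
  refine ⟨l ^ 2 ^ i, fun h => Nat.find_min hex (by omega : i < Nat.find hex) h,
    fun t ht w hw => ?_, fun w => ?_⟩
  · have htw : t * w * t⁻¹ ∈ P :=
      (Subgroup.mem_normalizer_iff.1 (stab_le_normalizer ht) w).1 hw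
    have h := hl t ht w hw
    rw [show lext l (t * w * t⁻¹) = (l ⟨_, htw⟩ : ℂ) from dif_pos htw,
      show lext l w = (l ⟨w, hw⟩ : ℂ) from dif_pos hw] at h
    rw [show lext (l ^ 2 ^ i) (t * w * t⁻¹) = ((l ^ 2 ^ i) ⟨_, htw⟩ : ℂˣ) from dif_pos htw,
      show lext (l ^ 2 ^ i) w = ((l ^ 2 ^ i) ⟨w, hw⟩ : ℂˣ) from dif_pos hw]
    simp only [MonoidHom.pow_apply, Units.val_pow_eq_pow_val, h]
  · refine sq_eq_one_iff.1 ?_
    have h := Nat.find_spec hex
    rw [hi, pow_succ, pow_mul] at h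
    have := DFunLike.congr_fun h w
    rw [MonoidHom.pow_apply, MonoidHom.one_apply] at this
    rw [← Units.val_pow_eq_pow_val, this, Units.val_one]

end CfsgLib.SmallBlock.Five
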