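import Cfsg.Agent.SmallBlock.Five.CharAlg

/-!
# The product on the first layer of the trace filtration
-/

set_option autoImplicit false
set_option linter.unusedSectionVars false
set_option linter.style.haveILetI false

namespace CfsgLib.SmallBlock.Five

variable {k R : Type*} [Field k] [Ring R] [Algebra k R]
variable (N : Submodule k R) (lam : R →ₗ[k] k) (m : ℕ)

/-- `N` modulo the part paired to zero with `N ^ (m - 1)`. -/
abbrev Layer1 : Type _ := ↥N ⧸ (ker N lam m 1).comap N.subtype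

/-- `N * N` modulo the part paired to zero with `N ^ (m - 2)`. -/
abbrev Layer2 : Type _ := ↥(N * N) ⧸ (ker N lam m 2).comap (N * N).subtype

variable {N lam m}

/-- The class of an element of `N` in the first layer. -/
def cls {x : R} (hx : x ∈ N) : Layer1 N lam m := Submodule.Quotient.mk ⟨x, hx⟩

/-- The class of an element of `N * N` in the second layer. -/
def cls₂ {x : R} (hx : x ∈ N * N) : Layer2 N lam m := Submodule.Quotient.mk ⟨x, hx⟩

theorem cls_eq {x y : R} (hx : x ∈ N) (hy : y ∈ N) :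
    (cls hx : Layer1 N lam m) = cls hy ↔ x - y ∈ ker N lam m 1 := Submodule.Quotient.eq _

theorem cls₂_eq {x y : R} (hx : x ∈ N * N) (hy : y ∈ N * N) :
    (cls₂ hx : Layer2 N lam m) = cls₂ hy ↔ x - y ∈ ker N lam m 2 := Submodule.Quotient.eq _

theorem cls_eq_zero {x : R} (hx : x ∈ N) :
    (cls hx : Layer1 N lam m) = 0 ↔ x ∈ ker N lam m 1 := Submodule.Quotient.mk_eq_zero _

theorem cls₂_eq_zero {x : R} (hx : x ∈ N * N) :
    (cls₂ hx : Layer2 N lam m) = 0 ↔ x ∈ ker N lam m 2 := Submodule.Quotient.mk_eq_zero _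

theorem exists_cls (v : Layer1 N lam m) : ∃ x, ∃ hx : x ∈ N, cls hx = v := by
  obtain ⟨⟨x, hx⟩, rfl⟩ := Submodule.Quotient.mk_surjective _ v
  exact ⟨x, hx, rfl⟩

theorem exists_cls₂ (v : Layer2 N lam m) : ∃ x, ∃ hx : x ∈ N * N, cls₂ hx = v := by
  obtain ⟨⟨x, hx⟩, rfl⟩ := Submodule.Quotient.mk_surjective _ v
  exact ⟨x, hx, rfl⟩

theorem finrank_layer1_add [FiniteDimensional k R] :
    Module.finrank k (Layer1 N lam m) + Module.finrank k (ker N lam m 1) = Module.finrank k N := by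
  rw [← (Submodule.comapSubtypeEquivOfLe (p := ker N lam m 1) (q := N)
    (ker_le.trans_eq (pow_one N))).finrank_eq]
  exact Submodule.finrank_quotient_add_finrank _

theorem finrank_layer2_add [FiniteDimensional k R] :
    Module.finrank k (Layer2 N lam m) + Module.finrank k (ker N lam m 2) =
      Module.finrank k ↥(N * N) := by
  rw [← (Submodule.comapSubtypeEquivOfLe (p := ker N lam m 2) (q := N * N)
    (ker_le.trans_eq (pow_two N))).finrank_eq]
  exact Submodule.finrank_quotient_add_finrank _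

theorem mem_pow_one {x : R} (hx : x ∈ N) : x ∈ N ^ 1 := by rwa [pow_one]

theorem pow_mem {x : R} (hx : x ∈ N) (i : ℕ) : x ^ i ∈ N ^ i := Submodule.pow_mem_pow N hx i

variable (h : IsTraceData N lam m)

/-- The product of two classes. -/
def mul₂ : Layer1 N lam m →ₗ[k] Layer1 N lam m →ₗ[k] Layer2 N lam m :=
  let μ : ↥N →ₗ[k] ↥N →ₗ[k] Layer2 N lam m :=
    LinearMap.mk₂ k (fun x y => cls₂ (Submodule.mul_mem_mul x.2 y.2))
      (fun x x' y => by
        show _ = Submodule.Quotient.mk _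
        exact congrArg Submodule.Quotient.mk (Subtype.ext (add_mul _ _ _)))
      (fun c x y => congrArg Submodule.Quotient.mk (Subtype.ext (smul_mul_assoc c _ _)))
      (fun x y y' => congrArg Submodule.Quotient.mk (Subtype.ext (mul_add _ _ _)))
      (fun c x y => congrArg Submodule.Quotient.mk (Subtype.ext (mul_smul_comm c _ _)))
  (((ker N lam m 1).comap N.subtype).liftQ
    (((ker N lam m 1).comap N.subtype).liftQ μ (fun x hx => LinearMap.mem_ker.2 (LinearMap.ext
      fun y => (cls₂_eq_zero _).2 (h.ker_mul hx (mem_pow_one y.2) rfl)))).flip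
    fun y hy => LinearMap.mem_ker.2 (LinearMap.ext fun v => by
      obtain ⟨x, hx, rfl⟩ := exists_cls v
      exact (cls₂_eq_zero _).2 (h.mul_ker (mem_pow_one hx) hy rfl))).flip

theorem mul₂_cls {x y : R} (hx : x ∈ N) (hy : y ∈ N) :
    mul₂ h (cls hx) (cls hy) = cls₂ (Submodule.mul_mem_mul hx hy) := rfl

include h

theorem mul₂_left_inj (hm : 2 ≤ m) : ∀ v, mul₂ h v = 0 → v = 0 := by
  intro v hv
  obtain ⟨x, hx, rfl⟩ := exists_cls v
  refine (cls_eq_zero hx).2 (h.mem_ker_one_of_right hm hx fun u hu => ?_)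
  rw [← cls₂_eq_zero (Submodule.mul_mem_mul hx hu), ← mul₂_cls h hx hu, hv, LinearMap.zero_apply]

theorem mul₂_right_inj (hm : 2 ≤ m) : ∀ x, (∀ v, mul₂ h v x = 0) → x = 0 := by
  intro v hv
  obtain ⟨x, hx, rfl⟩ := exists_cls v
  refine (cls_eq_zero hx).2 (h.mem_ker_one_of_left hm hx fun u hu => ?_)
  rw [← cls₂_eq_zero (Submodule.mul_mem_mul hu hx), ← mul₂_cls h hu hx, hv]

theorem mul₂_span : ⊤ ≤ ⨆ v, LinearMap.range (mul₂ h v) := by
  intro q _
  obtain ⟨z, hz, rfl⟩ := exists_cls₂ q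
  refine Submodule.mul_induction_on' (C := fun z hz => cls₂ hz ∈ ⨆ v, LinearMap.range (mul₂ h v))
    (fun x hx y hy => Submodule.mem_iSup_of_mem (cls hx) ⟨cls hy, rfl⟩)
    (fun x hx y hy hxm hym => ?_) hz
  exact (congrArg (· ∈ _) (show cls₂ (add_mem hx hy) = cls₂ hx + cls₂ hy from rfl)).mpr
    (add_mem hxm hym)

theorem le_map_sup_of_range_eq_top {a : R} (ha : a ∈ N)
    (hs : LinearMap.range (mul₂ h (cls ha)) = ⊤) :
    N * N ≤ N.map (LinearMap.mulLeft k a) ⊔ ker N lam m 2 := by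
  intro z hz
  obtain ⟨v, hv⟩ := LinearMap.range_eq_top.1 hs (cls₂ hz)
  obtain ⟨y, hy, rfl⟩ := exists_cls v
  rw [mul₂_cls, cls₂_eq] at hv
  rw [show z = a * y - (a * y - z) by abel]
  exact sub_mem (Submodule.mem_sup_left ⟨y, hy, rfl⟩) (Submodule.mem_sup_right hv)

/-! ### A left multiplication onto the second layer -/

variable {a : R} (ha : a ∈ N) (hfull : N * N ≤ N.map (LinearMap.mulLeft k a) ⊔ ker N lam m 2)
include ha hfull

theorem pow_succ_le_map (j : ℕ) :
    N ^ (j + 2) ≤ N.map (LinearMap.mulLeft k (a ^ (j + 1))) ⊔ ker N lam m (j + 2) := by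
  induction j with
  | zero => simpa [pow_two] using hfull
  | succ j ih =>
    rw [pow_succ]
    refine Submodule.mul_le.2 fun z hz w hw => ?_
    obtain ⟨_, ⟨y, hy, rfl⟩, r, hr, rfl⟩ := Submodule.mem_sup.1 (ih hz)
    obtain ⟨_, ⟨y', hy', rfl⟩, r', hr', he⟩ :=
      Submodule.mem_sup.1 (hfull (Submodule.mul_mem_mul hy hw))
    simp only [LinearMap.mulLeft_apply] at he ⊢
    rw [add_mul, mul_assoc, ← he, mul_add, ← mul_assoc, ← pow_succ, add_assoc (_ * y')]
    exact Submodule.add_mem_sup ⟨y', hy', rfl⟩ (add_mem (h.mul_ker (pow_mem ha _) hr' rfl)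
      (h.ker_mul hr (mem_pow_one hw) rfl))

theorem left_nondeg (hm : 3 ≤ m) {x : R} (hx : x ∈ N)
    (h0 : ∀ y ∈ N, lam (x * a ^ (m - 2) * y) = 0) : x ∈ ker N lam m 1 := by
  refine ⟨mem_pow_one hx, fun w hw => ?_⟩
  have hw' := pow_succ_le_map h ha hfull (m - 3) (by rwa [show m - 3 + 2 = m - 1 by omega])
  obtain ⟨_, ⟨y, hy, rfl⟩, r, hr, rfl⟩ := Submodule.mem_sup.1 hw'
  rw [show m - 3 + 1 = m - 2 by omega, LinearMap.mulLeft_apply, mul_add, map_add, ← mul_assoc,
    h0 y hy, zero_add, h.cyc]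
  exact hr.2 x (by rw [show m - (m - 3 + 2) = 1 by omega]; exact mem_pow_one hx)

variable [FiniteDimensional k R]

theorem right_nondeg (hm : 3 ≤ m) {y : R} (hy : y ∈ N)
    (h0 : ∀ x ∈ N, lam (x * a ^ (m - 2) * y) = 0) : y ∈ ker N lam m 1 := by
  let b : ↥N →ₗ[k] ↥N →ₗ[k] k :=
    LinearMap.mk₂ k (fun x y => lam ((x : R) * a ^ (m - 2) * y))
      (fun x x' y => by simp [add_mul]) (fun c x y => by simp) (fun x y y' => by simp [mul_add])
      (fun c x y => by simp)
  set K := (ker N lam m 1).comap N.subtype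
  let B : Layer1 N lam m →ₗ[k] Layer1 N lam m →ₗ[k] k :=
    (K.liftQ (K.liftQ b (fun x hx => LinearMap.mem_ker.2 (LinearMap.ext fun y => by
      show lam ((x : R) * a ^ (m - 2) * y) = 0
      rw [mul_assoc]
      refine hx.2 _ ?_
      have := mul_mem_pow (pow_mem ha (m - 2)) (mem_pow_one y.2)
      rwa [show m - 2 + 1 = m - 1 by omega] at this))).flip
    fun y hy => LinearMap.mem_ker.2 (LinearMap.ext fun v => by
      obtain ⟨x, hx, rfl⟩ := exists_cls v
      show lam (x * a ^ (m - 2) * y) = 0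
      rw [h.cyc]
      refine hy.2 _ ?_
      have := mul_mem_pow (mem_pow_one hx) (pow_mem ha (m - 2))
      rwa [show 1 + (m - 2) = m - 1 by omega] at this)).flip
  have hinj : Function.Injective B := by
    refine (injective_iff_map_eq_zero B).2 fun v hv => ?_
    obtain ⟨x, hx, rfl⟩ := exists_cls v
    exact (cls_eq_zero hx).2 (left_nondeg h ha hfull hm hx fun y hy =>
      LinearMap.congr_fun hv (cls hy))
  have hsurj := (LinearMap.injective_iff_surjective_of_finrank_eq_finrank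
    (Subspace.dual_finrank_eq (K := k) (V := Layer1 N lam m)).symm).1 hinj
  refine (cls_eq_zero hy).1 ((Module.forall_dual_apply_eq_zero_iff k _).1 fun φ => ?_)
  obtain ⟨v, rfl⟩ := hsurj φ
  obtain ⟨x, hx, rfl⟩ := exists_cls v
  exact h0 x hx

theorem mem_of_pow_mul_mem (hm : 3 ≤ m) {i : ℕ} (hi : i + 2 ≤ m) {y : R} (hy : y ∈ N)
    (hmem : a ^ i * y ∈ ker N lam m (i + 1)) : y ∈ ker N lam m 1 := by
  refine right_nondeg h ha hfull hm hy fun x hx => ?_
  rw [show m - 2 = (m - 2 - i) + i by omega, pow_add, ← mul_assoc, mul_assoc _ (a ^ i) y, h.cyc]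
  refine hmem.2 _ ?_
  have := mul_mem_pow (mem_pow_one hx) (pow_mem ha (m - 2 - i))
  rwa [show 1 + (m - 2 - i) = m - (i + 1) by omega] at this

theorem mul₂_bijective (hm : 3 ≤ m) : Function.Bijective (mul₂ h (cls ha)) := by
  refine ⟨(injective_iff_map_eq_zero _).2 fun v hv => ?_, fun q => ?_⟩
  · obtain ⟨y, hy, rfl⟩ := exists_cls v
    rw [mul₂_cls, cls₂_eq_zero] at hv
    exact (cls_eq_zero hy).2 (mem_of_pow_mul_mem h ha hfull hm (i := 1) hm hy (by rwa [pow_one]))
  · obtain ⟨z, hz, rfl⟩ := exists_cls₂ q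
    obtain ⟨_, ⟨y, hy, rfl⟩, r, hr, he⟩ := Submodule.mem_sup.1 (hfull hz)
    refine ⟨cls hy, (cls₂_eq _ _).2 ?_⟩
    rw [← he, LinearMap.mulLeft_apply, show a * y - (a * y + r) = -r by abel]
    exact neg_mem hr

theorem finrank_layer_eq (hm : 3 ≤ m) :
    Module.finrank k (Layer1 N lam m) = Module.finrank k (Layer2 N lam m) :=
  (LinearEquiv.ofBijective _ (mul₂_bijective h ha hfull hm)).finrank_eq

end CfsgLib.SmallBlock.Five
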