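import Cfsg.Agent.SmallBlock.Five.Filtration
import Mathlib.LinearAlgebra.Matrix.NonsingularInverse
import Mathlib.LinearAlgebra.Matrix.ToLinearEquiv
import Mathlib.Algebra.Polynomial.Roots
import Mathlib.Tactic.LinearCombination
import Mathlib.Tactic.Module

/-!
# Three-dimensional bilinear products without a surjective left multiplication

Either the product is killed by `v ↦ θ v` for a bijective `θ`, or a plane of right factors has
its products on a line.
-/

set_option autoImplicit false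
set_option linter.unusedSectionVars false
set_option linter.style.haveILetI false

namespace CfsgLib.SmallBlock.Five

open Polynomial in
theorem cubic_eq_zero {k : Type*} [Field k] [Infinite k] {A B C D : k}
    (h : ∀ r : k, A + r * B + r ^ 2 * C + r ^ 3 * D = 0) : A = 0 ∧ B = 0 ∧ C = 0 ∧ D = 0 := by
  set P : k[X] := Polynomial.C A + X * Polynomial.C B + X ^ 2 * Polynomial.C C +
    X ^ 3 * Polynomial.C D with hP
  have hP0 : P = 0 := Polynomial.funext fun r => by simp [hP]; linear_combination h r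
  have hc := fun n => congrArg (fun p : k[X] => p.coeff n) hP0
  refine ⟨?_, ?_, ?_, ?_⟩
  · simpa [hP, coeff_X_pow, coeff_C] using hc 0
  · simpa [hP, coeff_X_pow, coeff_C, coeff_X] using hc 1
  · simpa [hP, coeff_X_pow, coeff_C, coeff_X] using hc 2
  · simpa [hP, coeff_X_pow, coeff_C, coeff_X] using hc 3

section

variable {k V Q : Type*} [Field k] [AddCommGroup V] [Module k V] [FiniteDimensional k V]
  [AddCommGroup Q] [Module k Q] [FiniteDimensional k Q]

theorem mul_ne_zero_of_linear [Infinite k] {f g e : V →ₗ[k] k} (hf : f ≠ 0) (hg : g ≠ 0)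
    (he : e ≠ 0) : ∃ x, f x * g x * e x ≠ 0 := by
  obtain ⟨x, hx⟩ : ∃ x, f x * g x ≠ 0 := by
    by_contra! h
    obtain ⟨x, hx⟩ := not_forall.1 fun h => hf (LinearMap.ext h)
    obtain ⟨y, hy⟩ := not_forall.1 fun h => hg (LinearMap.ext h)
    simp only [LinearMap.zero_apply] at hx hy
    have hgx := (mul_eq_zero.1 (h x)).resolve_left hx
    have hfy := (mul_eq_zero.1 (h y)).resolve_right hy
    exact mul_ne_zero hx hy (by simpa [hgx, hfy] using h (x + y))
  by_contra! h
  obtain ⟨y, hy⟩ := not_forall.1 fun h => he (LinearMap.ext h)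
  simp only [LinearMap.zero_apply] at hy
  have hex : e x = 0 := (mul_eq_zero.1 (h x)).resolve_left hx
  have := (cubic_eq_zero (A := 0) (B := f x * g x * e y) (C := (f x * g y + f y * g x) * e y)
    (D := f y * g y * e y) fun r => by
      have := h (x + r • y)
      simp only [map_add, map_smul, smul_eq_mul, hex, zero_add] at this
      linear_combination this).2.1
  exact mul_ne_zero hx hy this

/-- Some left multiplication has rank at least two. -/
theorem exists_two_le_rank (μ : V →ₗ[k] V →ₗ[k] Q) (hV : 2 ≤ Module.finrank k V)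
    (hQ : 2 ≤ Module.finrank k Q) (hl : ∀ v, μ v = 0 → v = 0)
    (hr : ∀ x, (∀ v, μ v x = 0) → x = 0) (hspan : ⊤ ≤ ⨆ v, LinearMap.range (μ v)) :
    ∃ v, 2 ≤ Module.finrank k (LinearMap.range (μ v)) := by
  by_contra! hle
  have hline : ∀ v x, μ v x ≠ 0 → LinearMap.range (μ v) = Submodule.span k {μ v x} := by
    intro v x hx
    refine (Submodule.eq_of_le_of_finrank_le
      ((Submodule.span_singleton_le_iff_mem _ _).2 (LinearMap.mem_range_self _ x)) ?_).symm
    rw [finrank_span_singleton hx]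
    have := hle v
    omega
  haveI : Nontrivial V := Module.nontrivial_of_finrank_pos (R := k) (by omega)
  obtain ⟨b, hb⟩ := exists_ne (0 : V)
  obtain ⟨x, hx⟩ : ∃ x, μ b x ≠ 0 := by
    by_contra! h; exact hb (hl b (LinearMap.ext h))
  obtain ⟨h, hh, hh0⟩ := Submodule.exists_mem_ne_zero_of_ne_bot (p := LinearMap.ker (μ b)) (by
    intro h0
    have := LinearMap.finrank_range_add_finrank_ker (μ b)
    rw [h0, finrank_bot] at this
    have := hle b
    omega)
  obtain ⟨c₀, hc₀⟩ : ∃ c, μ c h ≠ 0 := by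
    by_contra! h'; exact hh0 (hr h h')
  have key : ∀ c, μ c h ≠ 0 → LinearMap.range (μ c) ≤ LinearMap.range (μ b) := by
    intro c hc
    have hbc : μ (b + c) h = μ c h := by simp [LinearMap.mem_ker.1 hh]
    have hd := hline (b + c) h (by rwa [hbc])
    rw [hbc] at hd
    have h1 : μ b x ∈ LinearMap.range (μ c) := by
      rw [hline c h hc]
      have h2 : μ b x + μ c x ∈ Submodule.span k {μ c h} := hd ▸ ⟨x, by simp⟩
      have h3 : μ c x ∈ Submodule.span k {μ c h} := hline c h hc ▸ ⟨x, rfl⟩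
      simpa using sub_mem h2 h3
    refine le_of_eq (Submodule.eq_of_le_of_finrank_le ?_ ?_).symm
    · rw [hline b x hx]; exact (Submodule.span_singleton_le_iff_mem _ _).2 h1
    · rw [hline b x hx, hline c h hc, finrank_span_singleton hx, finrank_span_singleton hc]
  have htop : ∀ c, LinearMap.range (μ c) ≤ LinearMap.range (μ b) := by
    intro c
    by_cases hc : μ c h = 0
    · rintro _ ⟨y, rfl⟩
      have h1 := key (c + c₀) (by simpa [hc] using hc₀) ⟨y, rfl⟩
      simpa using sub_mem h1 (key c₀ hc₀ ⟨y, rfl⟩)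
    · exact key c hc
  have := Submodule.finrank_mono (hspan.trans (iSup_le htop))
  rw [finrank_top] at this
  have := hle b
  omega

set_option maxHeartbeats 1000000 in
/-- The two degenerate shapes. -/
theorem theta_or_compression [Infinite k] (μ : V →ₗ[k] V →ₗ[k] Q)
    (hV : Module.finrank k V = 3) (hQ : Module.finrank k Q = 3) (hl : ∀ v, μ v = 0 → v = 0)
    (hr : ∀ x, (∀ v, μ v x = 0) → x = 0) (hspan : ⊤ ≤ ⨆ v, LinearMap.range (μ v))
    (hsing : ∀ v, LinearMap.range (μ v) ≠ ⊤) :
    (∃ θ : V →ₗ[k] V, Function.Bijective θ ∧ ∀ v, μ v (θ v) = 0) ∨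
      ∃ P : Submodule k V, Module.finrank k P = 2 ∧ ∃ q : Q, ∀ v, ∀ p ∈ P,
        μ v p ∈ Submodule.span k {q} := by
  obtain ⟨a, ha⟩ := exists_two_le_rank μ (by omega) (by omega) hl hr hspan
  have hlt : Module.finrank k (LinearMap.range (μ a)) < 3 := hQ ▸ Submodule.finrank_lt (hsing a)
  have hrk : Module.finrank k (LinearMap.range (μ a)) = 2 := by omega
  obtain ⟨x₀, hx₀, hx₀0⟩ := Submodule.exists_mem_ne_zero_of_ne_bot
    (p := LinearMap.ker (μ a)) (by
      intro h0
      have := LinearMap.finrank_range_add_finrank_ker (μ a)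
      rw [h0, finrank_bot] at this
      omega)
  rw [LinearMap.mem_ker] at hx₀
  let bR := Module.finBasisOfFinrankEq k _ hrk
  obtain ⟨y, hy⟩ := (bR 0).2
  obtain ⟨z, hz⟩ := (bR 1).2
  have hli : LinearIndependent k ![μ a y, μ a z] := by
    have e : ![μ a y, μ a z] = (LinearMap.range (μ a)).subtype ∘ bR := by
      funext i
      fin_cases i
      · exact hy
      · exact hz
    rw [e]
    exact bR.linearIndependent.map' _ (Submodule.ker_subtype _)
  obtain ⟨q₃, hq₃⟩ : ∃ q, q ∉ LinearMap.range (μ a) := by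
    by_contra! h; exact hsing a (eq_top_iff.2 fun q _ => h q)
  have hliQ : LinearIndependent k ![μ a y, μ a z, q₃] := by
    refine Fintype.linearIndependent_iff.2 fun g hg => ?_
    simp only [Fin.sum_univ_three, Matrix.cons_val] at hg
    have h2 : g 2 = 0 := by
      by_contra h2
      refine hq₃ ⟨-(g 2)⁻¹ • (g 0 • y + g 1 • z), ?_⟩
      rw [map_smul, map_add, map_smul, map_smul,
        show g 0 • μ a y + g 1 • μ a z = -(g 2 • q₃) from eq_neg_of_add_eq_zero_left hg,
        smul_neg, neg_smul, neg_neg, smul_smul, inv_mul_cancel₀ h2, one_smul]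
    rw [h2, zero_smul, add_zero] at hg
    obtain ⟨h0, h1⟩ := LinearIndependent.pair_iff.1 hli _ _ hg
    intro i; fin_cases i <;> assumption
  have hliV : LinearIndependent k ![x₀, y, z] := by
    refine Fintype.linearIndependent_iff.2 fun g hg => ?_
    simp only [Fin.sum_univ_three, Matrix.cons_val] at hg
    have h := congrArg (μ a) hg
    simp only [map_add, map_smul, hx₀, smul_zero, zero_add, map_zero] at h
    obtain ⟨h1, h2⟩ := LinearIndependent.pair_iff.1 hli _ _ h
    rw [h1, h2, zero_smul, zero_smul, add_zero, add_zero] at hg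
    have h0 : g 0 = 0 := (smul_eq_zero.1 hg).resolve_right hx₀0
    intro i; fin_cases i <;> assumption
  let bV := basisOfLinearIndependentOfCardEqFinrank hliV (by simp [hV])
  let bQ := basisOfLinearIndependentOfCardEqFinrank hliQ (by simp [hQ])
  have hbV : ⇑bV = ![x₀, y, z] := coe_basisOfLinearIndependentOfCardEqFinrank _ _
  have hbQ : ⇑bQ = ![μ a y, μ a z, q₃] := coe_basisOfLinearIndependentOfCardEqFinrank _ _
  -- the coordinates
  let L : V → Fin 3 → (V →ₗ[k] k) := fun p i => (bQ.coord i).comp (μ.flip p)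
  have hL : ∀ v p, μ v p = L p 0 v • μ a y + L p 1 v • μ a z + L p 2 v • q₃ := by
    intro v p
    conv_lhs => rw [← bQ.sum_repr (μ v p)]
    simp [Fin.sum_univ_three, hbQ, L]
  have hLa : L x₀ 0 a = 0 ∧ L x₀ 1 a = 0 ∧ L x₀ 2 a = 0 ∧ L y 0 a = 1 ∧ L y 1 a = 0 ∧
      L y 2 a = 0 ∧ L z 0 a = 0 ∧ L z 1 a = 1 ∧ L z 2 a = 0 := by
    have h0 : μ a y = bQ 0 := by simp [hbQ]
    have h1 : μ a z = bQ 1 := by simp [hbQ]
    simp only [L, LinearMap.comp_apply, LinearMap.flip_apply, hx₀]
    rw [h0, h1]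
    simp
  obtain ⟨a1, a2, a3, a4, a5, a6, a7, a8, a9⟩ := hLa
  have hdet : ∀ v, (Matrix.of ![![L x₀ 0 v, L y 0 v, L z 0 v], ![L x₀ 1 v, L y 1 v, L z 1 v],
      ![L x₀ 2 v, L y 2 v, L z 2 v]]).det = 0 := by
    intro v
    obtain ⟨w, hw, hw0⟩ := Submodule.exists_mem_ne_zero_of_ne_bot
      (p := LinearMap.ker (μ v)) (fun h0 => hsing v (LinearMap.range_eq_top.2
        ((LinearMap.injective_iff_surjective_of_finrank_eq_finrank (hV.trans hQ.symm)).1
          (LinearMap.ker_eq_bot.1 h0))))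
    refine Matrix.exists_mulVec_eq_zero_iff.1 ⟨fun j => bV.repr w j, fun h0 => hw0 ?_, ?_⟩
    · exact bV.repr.injective (by ext j; simpa using congrFun h0 j)
    · rw [LinearMap.mem_ker, ← bV.sum_repr w] at hw
      simp only [Fin.sum_univ_three, hbV, Matrix.cons_val, map_add, map_smul] at hw
      funext i
      have := congrArg (bQ.coord i) hw
      simp only [map_add, map_smul, map_zero, smul_eq_mul] at this
      fin_cases i
      all_goals simp [Matrix.mulVec, dotProduct, Fin.sum_univ_three, L] at this ⊢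
      all_goals linear_combination this
  have hid : ∀ v, L x₀ 2 v = 0 ∧ L x₀ 0 v * L y 2 v + L x₀ 1 v * L z 2 v = 0 ∧
      L x₀ 0 v * (L y 1 v * L z 2 v - L z 1 v * L y 2 v) -
        L x₀ 1 v * (L y 0 v * L z 2 v - L z 0 v * L y 2 v) = 0 := by
    intro v
    set E := L x₀ 0 v * (L y 1 v * L z 2 v - L z 1 v * L y 2 v) -
      L x₀ 1 v * (L y 0 v * L z 2 v - L z 0 v * L y 2 v) +
      L x₀ 2 v * (L y 0 v * L z 1 v - L z 0 v * L y 1 v) with hE
    set F := L x₀ 2 v * (L y 0 v + L z 1 v) -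
      L x₀ 0 v * L y 2 v - L x₀ 1 v * L z 2 v with hF
    obtain ⟨h0, h1, h2, -⟩ := cubic_eq_zero (A := E) (B := F) (C := L x₀ 2 v) (D := 0) fun r => by
      have := hdet (v + r • a)
      simp [Matrix.det_fin_three, a1, a2, a3, a4, a5, a6, a7, a8, a9] at this
      rw [hE, hF]
      linear_combination this
    exact ⟨h2, by rw [hF, h2] at h1; linear_combination -h1,
      by rw [hE, h2] at h0; linear_combination h0⟩
  have hnot : ¬ (L y 2 = 0 ∧ L z 2 = 0) := by
    rintro ⟨h1, h2⟩
    refine hq₃ (hspan.trans (iSup_le fun v => ?_) Submodule.mem_top)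
    rintro _ ⟨p, rfl⟩
    rw [← bV.sum_repr p]
    simp only [Fin.sum_univ_three, hbV, Matrix.cons_val, map_add, map_smul]
    refine add_mem (add_mem ?_ ?_) ?_ <;> refine Submodule.smul_mem _ _ ?_ <;> rw [hL]
    · rw [(hid v).1, zero_smul, add_zero]
      exact add_mem (Submodule.smul_mem _ _ ⟨y, rfl⟩) (Submodule.smul_mem _ _ ⟨z, rfl⟩)
    · rw [h1, LinearMap.zero_apply, zero_smul, add_zero]
      exact add_mem (Submodule.smul_mem _ _ ⟨y, rfl⟩) (Submodule.smul_mem _ _ ⟨z, rfl⟩)
    · rw [h2, LinearMap.zero_apply, zero_smul, add_zero]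
      exact add_mem (Submodule.smul_mem _ _ ⟨y, rfl⟩) (Submodule.smul_mem _ _ ⟨z, rfl⟩)
  let g : V →ₗ[k] k × k := (L x₀ 0).prod (L x₀ 1)
  by_cases hg : LinearMap.range g = ⊤
  · left
    obtain ⟨b, hb⟩ := LinearMap.range_eq_top.1 hg (1, 0)
    obtain ⟨c, hc⟩ := LinearMap.range_eq_top.1 hg (0, 1)
    obtain ⟨b0, b1⟩ : L x₀ 0 b = 1 ∧ L x₀ 1 b = 0 := Prod.ext_iff.1 hb
    obtain ⟨c0, c1⟩ : L x₀ 0 c = 0 ∧ L x₀ 1 c = 1 := Prod.ext_iff.1 hc
    have hb2 : L y 2 b = 0 := by simpa [b0, b1] using (hid b).2.1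
    have hc2 : L z 2 c = 0 := by simpa [c0, c1] using (hid c).2.1
    obtain ⟨κ, hκ⟩ : ∃ κ, L z 2 b = κ := ⟨_, rfl⟩
    have hκ' : L y 2 c = -κ := by
      have := (hid (b + c)).2.1
      simp [b0, b1, c0, c1, hb2, hc2, hκ] at this
      linear_combination this
    have hliW : LinearIndependent k ![a, b, c] := by
      refine Fintype.linearIndependent_iff.2 fun w hw => ?_
      simp only [Fin.sum_univ_three, Matrix.cons_val] at hw
      have h1 := congrArg (L x₀ 0) hw
      have h2 := congrArg (L x₀ 1) hw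
      simp [a1, b0, c0] at h1
      simp [a2, b1, c1] at h2
      rw [h1, h2, zero_smul, zero_smul, add_zero, add_zero] at hw
      have h0 : w 0 = 0 := (smul_eq_zero.1 hw).resolve_right fun h => by simp [h] at a4
      intro i; fin_cases i <;> assumption
    let bW := basisOfLinearIndependentOfCardEqFinrank hliW (by simp [hV])
    have hbW : ⇑bW = ![a, b, c] := coe_basisOfLinearIndependentOfCardEqFinrank _ _
    have hκ0 : κ ≠ 0 := by
      intro h0
      refine hnot ⟨bW.ext fun i => ?_, bW.ext fun i => ?_⟩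
      · fin_cases i <;> simp [hbW, a6, hb2, hκ', h0]
      · fin_cases i <;> simp [hbW, a9, hκ, hc2, h0]
    obtain ⟨e0, e1, e2, e3⟩ := cubic_eq_zero (A := L y 1 b)
      (B := L y 1 c + L z 1 b - L y 0 b) (C := L z 1 c - L y 0 c - L z 0 b) (D := - L z 0 c)
      fun r => by
        have := (hid (b + r • c)).2.2
        simp [b0, b1, c0, c1, hb2, hc2, hκ, hκ'] at this
        refine (mul_eq_zero.1 (?_ : κ * _ = 0)).resolve_left hκ0
        linear_combination this
    rw [neg_eq_zero] at e3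
    set β := L z 1 b - L y 0 b with hβ
    set y' := y + β • x₀ with hy'
    set z' := z - L z 0 b • x₀ with hz'
    set b₁ := b - L z 1 b • a with hb₁
    set c₁ := c - L y 0 c • a with hc₁
    have t1 : μ a y' = μ a y := by simp [hy', hx₀]
    have t2 : μ a z' = μ a z := by simp [hz', hx₀]
    have t3 : μ b₁ x₀ = μ a y := by
      simp only [hb₁, map_sub, map_smul, LinearMap.sub_apply, LinearMap.smul_apply, hx₀]
      rw [hL b x₀, b0, b1, (hid b).1]
      module
    have t4 : μ c₁ x₀ = μ a z := by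
      simp only [hc₁, map_sub, map_smul, LinearMap.sub_apply, LinearMap.smul_apply, hx₀]
      rw [hL c x₀, c0, c1, (hid c).1]
      module
    have t5 : μ b₁ y' = 0 := by
      simp only [hb₁, hy', hβ, map_add, map_sub, map_smul, LinearMap.sub_apply,
        LinearMap.smul_apply, hx₀]
      rw [hL b y, hL b x₀, b0, b1, (hid b).1, e0, hb2]
      module
    have t6 : μ c₁ z' = 0 := by
      simp only [hc₁, hz', map_sub, map_smul, LinearMap.sub_apply, LinearMap.smul_apply, hx₀]
      rw [hL c z, hL c x₀, c0, c1, (hid c).1, e3, hc2,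
        show L z 1 c = L y 0 c + L z 0 b by linear_combination e2]
      module
    have t7 : μ b₁ z' + μ c₁ y' = 0 := by
      simp only [hb₁, hc₁, hy', hz', hβ, map_add, map_sub, map_smul, LinearMap.sub_apply,
        LinearMap.smul_apply, hx₀]
      rw [hL b z, hL b x₀, hL c y, hL c x₀, b0, b1, c0, c1, (hid b).1, (hid c).1, hκ, hκ',
        show L y 1 c = L y 0 b - L z 1 b by linear_combination e1]
      module
    have hliB : LinearIndependent k ![a, b₁, c₁] := by
      refine Fintype.linearIndependent_iff.2 fun w hw => ?_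
      simp only [Fin.sum_univ_three, Matrix.cons_val] at hw
      obtain ⟨h0, h1, h2⟩ : (w 0 - w 1 * L z 1 b - w 2 * L y 0 c = 0) ∧ w 1 = 0 ∧ w 2 = 0 := by
        have := Fintype.linearIndependent_iff.1 hliW
          ![w 0 - w 1 * L z 1 b - w 2 * L y 0 c, w 1, w 2] (by
            simp only [Fin.sum_univ_three, Matrix.cons_val]
            rw [← hw, hb₁, hc₁]; module)
        exact ⟨this 0, this 1, this 2⟩
      have h0' : w 0 = 0 := by linear_combination h0 + L z 1 b * h1 + L y 0 c * h2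
      intro i; fin_cases i <;> assumption
    let bB := basisOfLinearIndependentOfCardEqFinrank hliB (by simp [hV])
    have hbB : ⇑bB = ![a, b₁, c₁] := coe_basisOfLinearIndependentOfCardEqFinrank _ _
    refine ⟨bB.constr k ![x₀, -y', -z'], ?_, fun v => ?_⟩
    · have hs : Function.Surjective (bB.constr k ![x₀, -y', -z']) := by
        rw [← LinearMap.range_eq_top, eq_top_iff, ← bV.span_eq, Submodule.span_le]
        have hx : x₀ ∈ LinearMap.range (bB.constr k ![x₀, -y', -z']) := ⟨bB 0, by simp⟩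
        have hyy : -y' ∈ LinearMap.range (bB.constr k ![x₀, -y', -z']) := ⟨bB 1, by simp⟩
        have hzz : -z' ∈ LinearMap.range (bB.constr k ![x₀, -y', -z']) := ⟨bB 2, by simp⟩
        rintro _ ⟨i, rfl⟩
        fin_cases i <;> simp only [hbV, Matrix.cons_val, SetLike.mem_coe]
        · exact hx
        · have := sub_mem (neg_mem hyy) (Submodule.smul_mem _ β hx)
          simpa [hy'] using this
        · have := add_mem (neg_mem hzz) (Submodule.smul_mem _ (L z 0 b) hx)
          simpa [hz'] using this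
      exact ⟨LinearMap.injective_iff_surjective.2 hs, hs⟩
    · rw [← bB.sum_repr v]
      simp only [Fin.sum_univ_three, map_add, map_smul, Module.Basis.constr_basis]
      simp only [hbB, Matrix.cons_val, map_add, map_smul, map_neg, LinearMap.add_apply,
        LinearMap.smul_apply, hx₀, t1, t2, t3, t4, t5, t6]
      linear_combination (norm := module) -((bB.repr v) 1 * (bB.repr v) 2) • t7
  · right
    obtain ⟨b, hb⟩ : ∃ b, g b ≠ 0 := by
      by_contra! h
      refine hx₀0 (hr x₀ fun v => ?_)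
      obtain ⟨h0, h1⟩ : L x₀ 0 v = 0 ∧ L x₀ 1 v = 0 := Prod.ext_iff.1 (h v)
      rw [hL v x₀, h0, h1, (hid v).1]; simp
    have hgl : LinearMap.range g = Submodule.span k {g b} := by
      refine (Submodule.eq_of_le_of_finrank_le
        ((Submodule.span_singleton_le_iff_mem _ _).2 (LinearMap.mem_range_self g b)) ?_).symm
      rw [finrank_span_singleton hb]
      have := Submodule.finrank_lt hg
      rw [Module.finrank_prod, Module.finrank_self] at this
      omega
    obtain ⟨γ₁, γ₂, hγ⟩ : ∃ γ₁ γ₂, g b = (γ₁, γ₂) := ⟨_, _, rfl⟩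
    obtain ⟨δ₁, δ₂, hδ⟩ : ∃ δ₁ δ₂, γ₁ * δ₁ + γ₂ * δ₂ = 1 := by
      by_cases h1 : γ₁ = 0
      · have h2 : γ₂ ≠ 0 := fun h2 => hb (by rw [hγ, h1, h2]; rfl)
        exact ⟨0, γ₂⁻¹, by rw [mul_zero, zero_add, mul_inv_cancel₀ h2]⟩
      · exact ⟨γ₁⁻¹, 0, by rw [mul_zero, add_zero, mul_inv_cancel₀ h1]⟩
    set φ := δ₁ • L x₀ 0 + δ₂ • L x₀ 1 with hφ
    have hgv : ∀ v, L x₀ 0 v = φ v * γ₁ ∧ L x₀ 1 v = φ v * γ₂ := by
      intro v
      obtain ⟨r, hr'⟩ := Submodule.mem_span_singleton.1
        ((le_of_eq hgl) (LinearMap.mem_range_self g v))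
      rw [hγ] at hr'
      obtain ⟨h0, h1⟩ : r * γ₁ = L x₀ 0 v ∧ r * γ₂ = L x₀ 1 v := Prod.ext_iff.1 hr'
      simp only [hφ, LinearMap.add_apply, LinearMap.smul_apply, smul_eq_mul, ← h0, ← h1]
      exact ⟨by linear_combination -(r * γ₁) * hδ, by linear_combination -(r * γ₂) * hδ⟩
    have hφ0 : φ ≠ 0 := fun h0 => hb (Prod.ext
      (show L x₀ 0 b = 0 by rw [(hgv b).1, h0]; simp) (show L x₀ 1 b = 0 by rw [(hgv b).2, h0]; simp))
    set y' := γ₁ • y + γ₂ • z with hy'
    have hh : γ₁ • L y 2 + γ₂ • L z 2 = 0 := by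
      by_contra hne
      obtain ⟨v, hv⟩ := mul_ne_zero_of_linear hφ0 hφ0 hne
      refine hv ?_
      have := (hid v).2.1
      rw [(hgv v).1, (hgv v).2] at this
      simp only [LinearMap.add_apply, LinearMap.smul_apply, smul_eq_mul]
      linear_combination φ v * this
    have hh' : ∀ v, γ₁ * L y 2 v + γ₂ * L z 2 v = 0 := fun v => LinearMap.congr_fun hh v
    set ψ := δ₁ • L z 2 - δ₂ • L y 2 with hψ
    set E := γ₁ • (γ₁ • L y 1 + γ₂ • L z 1) - γ₂ • (γ₁ • L y 0 + γ₂ • L z 0) with hE
    have hψh : ∀ v, L y 2 v = -γ₂ * ψ v ∧ L z 2 v = γ₁ * ψ v := fun v => by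
      simp only [hψ, LinearMap.sub_apply, LinearMap.smul_apply, smul_eq_mul]
      exact ⟨by linear_combination δ₁ * hh' v - L y 2 v * hδ,
        by linear_combination δ₂ * hh' v - L z 2 v * hδ⟩
    have hψ0 : ψ ≠ 0 := fun h0 => hnot ⟨LinearMap.ext fun v => by rw [(hψh v).1, h0]; simp,
      LinearMap.ext fun v => by rw [(hψh v).2, h0]; simp⟩
    have hE0 : E = 0 := by
      by_contra hne
      obtain ⟨v, hv⟩ := mul_ne_zero_of_linear hφ0 hψ0 hne
      refine hv ?_
      have := (hid v).2.2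
      rw [(hgv v).1, (hgv v).2, (hψh v).1, (hψh v).2] at this
      simp only [hE, LinearMap.sub_apply, LinearMap.add_apply, LinearMap.smul_apply, smul_eq_mul]
      linear_combination this
    have hliP : LinearIndependent k ![x₀, y'] := by
      refine LinearIndependent.pair_iff.2 fun s t hst => ?_
      have := Fintype.linearIndependent_iff.1 hliV ![s, t * γ₁, t * γ₂] (by
        simp only [Fin.sum_univ_three, Matrix.cons_val]
        rw [← hst, hy']; module)
      have h1 : t * γ₁ = 0 := this 1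
      have h2 : t * γ₂ = 0 := this 2
      exact ⟨this 0, by linear_combination -t * hδ + δ₁ * h1 + δ₂ * h2⟩
    refine ⟨Submodule.span k (Set.range ![x₀, y']), (finrank_span_eq_card hliP).trans (by simp),
      μ a y', fun v p hp => ?_⟩
    refine Submodule.span_le (p := (Submodule.span k {μ a y'}).comap (μ v)).2 ?_ hp
    rintro _ ⟨i, rfl⟩
    refine Submodule.mem_span_singleton.2 ?_
    fin_cases i
    · refine ⟨φ v, ?_⟩
      show φ v • μ a y' = μ v x₀
      rw [hL v x₀, (hid v).1, (hgv v).1, (hgv v).2, hy', map_add, map_smul, map_smul]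
      module
    · refine ⟨δ₁ * (γ₁ * L y 0 v + γ₂ * L z 0 v) + δ₂ * (γ₁ * L y 1 v + γ₂ * L z 1 v), ?_⟩
      have he : γ₁ * (γ₁ * L y 1 v + γ₂ * L z 1 v) - γ₂ * (γ₁ * L y 0 v + γ₂ * L z 0 v) = 0 :=
        LinearMap.congr_fun hE0 v
      have c0 : (δ₁ * (γ₁ * L y 0 v + γ₂ * L z 0 v) + δ₂ * (γ₁ * L y 1 v + γ₂ * L z 1 v)) * γ₁ =
          γ₁ * L y 0 v + γ₂ * L z 0 v := by
        linear_combination δ₂ * he + (γ₁ * L y 0 v + γ₂ * L z 0 v) * hδ
      have c1 : (δ₁ * (γ₁ * L y 0 v + γ₂ * L z 0 v) + δ₂ * (γ₁ * L y 1 v + γ₂ * L z 1 v)) * γ₂ =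
          γ₁ * L y 1 v + γ₂ * L z 1 v := by
        linear_combination -δ₁ * he + (γ₁ * L y 1 v + γ₂ * L z 1 v) * hδ
      have c2 : (γ₁ * L y 2 v + γ₂ * L z 2 v) • q₃ = 0 := by rw [hh' v, zero_smul]
      show _ • μ a y' = μ v y'
      rw [hy']
      simp only [map_add, map_smul, smul_add, smul_smul]
      rw [c0, c1, hL v y, hL v z]
      linear_combination (norm := module) (-1 : k) • c2

end

end CfsgLib.SmallBlock.Five
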