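import Cfsg.Agent.SmallBlock.Five.TwoGen
import Mathlib.LinearAlgebra.Dimension.OrzechProperty

/-!
# Three generators: the fourth power vanishes
-/

set_option autoImplicit false
set_option linter.unusedSectionVars false
set_option linter.style.haveILetI false

namespace CfsgLib.SmallBlock.Five

open scoped Pointwise

variable {k R : Type*} [Field k] [IsAlgClosed k] [Ring R] [Algebra k R] [FiniteDimensional k R]
  {N T : Submodule k R} {lam : R →ₗ[k] k} {m : ℕ}

theorem le_span_sup_ker {ι : Type*} {f : ι → R} (hf : ∀ i, f i ∈ N)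
    (hspan : ⊤ ≤ Submodule.span k (Set.range fun i => (cls (hf i) : Layer1 N lam m))) :
    N ≤ Submodule.span k (Set.range f) ⊔ ker N lam m 1 := by
  intro x hx
  have hle : Submodule.span k (Set.range fun i => (cls (hf i) : Layer1 N lam m)) ≤
      ((Submodule.span k (Set.range f) ⊔ ker N lam m 1).comap N.subtype).map
        ((ker N lam m 1).comap N.subtype).mkQ := by
    refine Submodule.span_le.2 ?_
    rintro _ ⟨i, rfl⟩
    exact ⟨⟨f i, hf i⟩, Submodule.mem_sup_left (Submodule.subset_span ⟨i, rfl⟩), rfl⟩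
  obtain ⟨⟨y, hy⟩, hyS, hxy⟩ := hle (hspan (Submodule.mem_top (x := cls hx)))
  rw [show x = y + (x - y) by abel]
  exact add_mem hyS (Submodule.mem_sup_right ((cls_eq hx hy).1 hxy.symm))

theorem IsTraceData.mul_le_sup (h : IsTraceData N lam m) {i j : ℕ} {A B S S' : Submodule k R}
    (hS : S ≤ N ^ i) (hB : B ≤ N ^ j) (hA' : A ≤ S ⊔ ker N lam m i)
    (hB' : B ≤ S' ⊔ ker N lam m j) : A * B ≤ S * S' ⊔ ker N lam m (i + j) := by
  refine Submodule.mul_le.2 fun x hx y hy => ?_
  obtain ⟨p, hp, r, hr, rfl⟩ := Submodule.mem_sup.1 (hA' hx)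
  obtain ⟨q, hq, r', hr', hy'⟩ := Submodule.mem_sup.1 (hB' hy)
  rw [show (p + r) * y = p * q + (p * r' + r * y) by rw [← hy']; noncomm_ring]
  exact Submodule.add_mem_sup (Submodule.mul_mem_mul hp hq)
    (add_mem (h.mul_ker (hS hp) hr' rfl) (h.ker_mul hr (hB hy) rfl))

theorem exists_gen_of_two {V : Type*} [AddCommGroup V] [Module k V] [FiniteDimensional k V]
    {P : Submodule k V} (hP : Module.finrank k P = 2) {v : V} (hv : v ∈ P) (hv0 : v ≠ 0) :
    ∃ p ∈ P, P ≤ Submodule.span k {v, p} := by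
  have hle : Submodule.span k {v} ≤ P := (Submodule.span_singleton_le_iff_mem _ _).2 hv
  obtain ⟨p, hp, hpv⟩ := SetLike.exists_of_lt (lt_of_le_of_ne hle fun h0 => by
    rw [← h0, finrank_span_singleton hv0] at hP; omega)
  refine ⟨p, hp, le_of_eq (Submodule.eq_of_le_of_finrank_le (Submodule.span_le.2
    (by rintro w (rfl | rfl) <;> assumption)) ?_).symm⟩
  have hlt : Submodule.span k {v} < Submodule.span k {v, p} :=
    lt_of_le_not_ge (Submodule.span_mono (by simp)) fun h0 =>
      hpv (h0 (Submodule.subset_span (by simp)))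
  have := Submodule.finrank_lt_finrank_of_lt hlt
  rw [finrank_span_singleton hv0] at this
  omega

/-- A map `θ` with `v * θ v = 0` in the second layer kills the fourth power. -/
theorem false_of_theta (h : IsTraceData N lam m) (hm : 4 ≤ m)
    (hV : Module.finrank k (Layer1 N lam m) = 3) (θ : Layer1 N lam m →ₗ[k] Layer1 N lam m)
    (hθ : Function.Bijective θ) (hθ0 : ∀ v, mul₂ h v (θ v) = 0) : False := by
  let b := Module.finBasisOfFinrankEq k _ hV
  have hlift : ∀ (r : ℕ) (i : Fin 3), ∃ x, ∃ hx : x ∈ N, cls hx = (θ ^ r) (b i) :=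
    fun r i => exists_cls _
  choose e he hcls using hlift
  have hspan : ∀ r, N ≤ Submodule.span k (Set.range (e r)) ⊔ ker N lam m 1 := by
    intro r
    refine le_span_sup_ker (he r) ?_
    simp only [hcls]
    have hs : Function.Surjective (θ ^ r) := by
      rw [Module.End.coe_pow]; exact hθ.2.iterate r
    rw [Set.range_comp' (θ ^ r) b, ← Submodule.map_span, b.span_eq, Submodule.map_top,
      LinearMap.range_eq_top.2 hs]
  have hpol : ∀ u v, mul₂ h u (θ v) + mul₂ h v (θ u) = 0 := fun u v => by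
    have := hθ0 (u + v)
    simp only [map_add, LinearMap.add_apply, hθ0, zero_add, add_zero] at this
    exact (add_comm _ _).trans this
  have hsame : ∀ r i, e r i * e (r + 1) i ∈ ker N lam m 2 := fun r i => by
    rw [← cls₂_eq_zero (Submodule.mul_mem_mul (he r i) (he (r + 1) i)),
      ← mul₂_cls h (he r i) (he (r + 1) i), hcls, hcls, pow_succ', Module.End.mul_apply]
    exact hθ0 _
  have hswap : ∀ r i j, e r i * e (r + 1) j + e r j * e (r + 1) i ∈ ker N lam m 2 := fun r i j => by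
    rw [← cls₂_eq_zero (add_mem (Submodule.mul_mem_mul (he r i) (he (r + 1) j))
      (Submodule.mul_mem_mul (he r j) (he (r + 1) i)))]
    show (cls₂ (Submodule.mul_mem_mul (he r i) (he (r + 1) j)) : Layer2 N lam m) +
      cls₂ (Submodule.mul_mem_mul (he r j) (he (r + 1) i)) = 0
    rw [← mul₂_cls h (he r i) (he (r + 1) j), ← mul₂_cls h (he r j) (he (r + 1) i), hcls, hcls,
      hcls, hcls, pow_succ', Module.End.mul_apply, Module.End.mul_apply]
    exact hpol _ _
  have hp1 : ∀ r i, e r i ∈ N ^ 1 := fun r i => mem_pow_one (he r i)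
  -- words of length four
  have h01 : ∀ {z w : R}, z ∈ ker N lam m 2 → w ∈ N ^ 2 → z * w ∈ ker N lam m 4 := fun hz hw =>
    h.ker_mul hz hw rfl
  have hl : ∀ i j l, e 0 i * e 1 j * (e 2 l * e 3 l) ∈ ker N lam m 4 := fun i j l =>
    h.mul_ker (mul_mem_pow (hp1 0 i) (hp1 1 j)) (hsame 2 l) rfl
  have hf : ∀ i l n, e 0 i * e 1 i * (e 2 l * e 3 n) ∈ ker N lam m 4 := fun i l n =>
    h01 (hsame 0 i) (mul_mem_pow (hp1 2 l) (hp1 3 n))
  have hmid : ∀ i j l, e 0 i * e 1 j * (e 2 j * e 3 l) ∈ ker N lam m 4 := fun i j l => by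
    rw [show e 0 i * e 1 j * (e 2 j * e 3 l) = e 0 i * (e 1 j * e 2 j) * e 3 l by
      simp only [mul_assoc]]
    exact h.ker_mul (h.mul_ker (hp1 0 i) (hsame 1 j) rfl) (hp1 3 l) rfl
  have hswap12 : ∀ i j l n, e 0 j * e 1 i * (e 2 l * e 3 n) ∈ ker N lam m 4 →
      e 0 i * e 1 j * (e 2 l * e 3 n) ∈ ker N lam m 4 := fun i j l n hm' => by
    rw [show e 0 i * e 1 j * (e 2 l * e 3 n) = (e 0 i * e 1 j + e 0 j * e 1 i) * (e 2 l * e 3 n) -
      e 0 j * e 1 i * (e 2 l * e 3 n) by noncomm_ring]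
    exact sub_mem (h01 (hswap 0 i j) (mul_mem_pow (hp1 2 l) (hp1 3 n))) hm'
  have hswap34 : ∀ i j l n, e 0 i * e 1 j * (e 2 n * e 3 l) ∈ ker N lam m 4 →
      e 0 i * e 1 j * (e 2 l * e 3 n) ∈ ker N lam m 4 := fun i j l n hm' => by
    rw [show e 0 i * e 1 j * (e 2 l * e 3 n) = e 0 i * e 1 j * (e 2 l * e 3 n + e 2 n * e 3 l) -
      e 0 i * e 1 j * (e 2 n * e 3 l) by noncomm_ring]
    exact sub_mem (h.mul_ker (mul_mem_pow (hp1 0 i) (hp1 1 j)) (hswap 2 l n) rfl) hm'
  have hword : ∀ i j l n, e 0 i * e 1 j * (e 2 l * e 3 n) ∈ ker N lam m 4 := by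
    intro i j l n
    have hpigeon : i = j ∨ l = n ∨ j = l ∨ i = l ∨ j = n ∨ i = n := by omega
    rcases hpigeon with rfl | rfl | rfl | rfl | rfl | rfl
    · exact hf i l n
    · exact hl i j l
    · exact hmid i j n
    · exact hswap12 i j i n (hmid j i n)
    · exact hswap34 i j l j (hmid i j l)
    · exact hswap12 i j l i (hswap34 j i l i (hmid j i l))
  refine h.not_pow_le_ker hm ?_
  have hS : ∀ r, Submodule.span k (Set.range (e r)) ≤ N := fun r =>
    Submodule.span_le.2 (Set.range_subset_iff.2 (he r))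
  have hSS : ∀ r, Submodule.span k (Set.range (e r)) * Submodule.span k (Set.range (e (r + 1))) ≤
      N ^ 2 := fun r => by rw [pow_two]; exact mul_le_mul' (hS r) (hS (r + 1))
  have hN : N ≤ N ^ 1 := (pow_one N).ge
  have h2 : ∀ r, N * N ≤ Submodule.span k (Set.range (e r)) *
      Submodule.span k (Set.range (e (r + 1))) ⊔ ker N lam m 2 := fun r =>
    h.mul_le_sup (i := 1) (j := 1) ((hS r).trans hN) hN (hspan r) (hspan (r + 1))
  have h4 := h.mul_le_sup (i := 2) (j := 2) (hSS 0) (pow_two N).ge (h2 0) (h2 2)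
  rw [show N ^ 4 = N * N * (N * N) by rw [← pow_two, ← pow_two, ← pow_mul]]
  refine h4.trans (sup_le ?_ le_rfl)
  rw [Submodule.span_mul_span, Submodule.span_mul_span, Submodule.span_mul_span, Submodule.span_le]
  rintro _ ⟨_, ⟨_, ⟨i, rfl⟩, _, ⟨j, rfl⟩, rfl⟩, _, ⟨_, ⟨l, rfl⟩, _, ⟨n, rfl⟩, rfl⟩, rfl⟩
  exact hword i j l n

/-- A plane of right factors with products on a line bounds the next to top power by two
generators. -/
theorem false_of_compression (h : IsTraceData N lam m) (hm : 4 ≤ m)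
    (hK1 : Module.finrank k (ker N lam m 1) + 3 ≤ Module.finrank k N) {q e p₁ p₂ p₀ p : R}
    (hq : q ∈ N * N) (he : e ∈ N) (hp₁ : p₁ ∈ N) (hp₂ : p₂ ∈ N) (hp₀ : p₀ ∈ N) (hp : p ∈ N)
    (hgen : N ≤ Submodule.span k {e, p₁, p₂} ⊔ ker N lam m 1)
    (hee : e * e ∈ Submodule.span k {q} ⊔ ker N lam m 2)
    (hNp₁ : ∀ u ∈ N, u * p₁ ∈ Submodule.span k {q} ⊔ ker N lam m 2)
    (hNp₂ : ∀ u ∈ N, u * p₂ ∈ Submodule.span k {q} ⊔ ker N lam m 2)
    (hNp₀ : ∀ u ∈ N, u * p₀ ∈ Submodule.span k {q} ⊔ ker N lam m 2)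
    (hpp : p₀ * p ∈ Submodule.span k {q} ⊔ ker N lam m 2)
    (hpp0 : p₀ * p ∉ ker N lam m 2) : False := by
  obtain ⟨γq, hγq, r₀, hr₀, hdec⟩ := Submodule.mem_sup.1 hpp
  obtain ⟨γ, rfl⟩ := Submodule.mem_span_singleton.1 hγq
  have hγ : γ ≠ 0 := fun h0 => hpp0 (by rw [← hdec, h0, zero_smul, zero_add]; exact hr₀)
  have hq2 : q ∈ N ^ 2 := by rwa [pow_two]
  -- `N * q` is on the line of `q * p`
  have hNq : ∀ u ∈ N, u * q ∈ Submodule.span k {q * p} ⊔ ker N lam m 3 := by
    intro u hu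
    obtain ⟨cq, hcq, r, hr, hur⟩ := Submodule.mem_sup.1 (hNp₀ u hu)
    obtain ⟨c, rfl⟩ := Submodule.mem_span_singleton.1 hcq
    have h1 : γ • (u * q) = c • (q * p) + (r * p - u * r₀) := by
      have : (u * p₀) * p = u * (p₀ * p) := mul_assoc _ _ _
      rw [← hur, ← hdec, add_mul, smul_mul_assoc, mul_add, mul_smul_comm] at this
      rw [eq_sub_of_add_eq this.symm]
      abel
    refine (Submodule.smul_mem_iff _ hγ).1 ?_
    rw [h1]
    exact Submodule.add_mem_sup (Submodule.smul_mem _ c (Submodule.mem_span_singleton_self _))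
      (sub_mem (h.ker_mul hr (mem_pow_one hp) rfl) (h.mul_ker (mem_pow_one hu) hr₀ rfl))
  have h2 : N * N ≤ Submodule.span k {q, p₁ * e, p₂ * e} ⊔ ker N lam m 2 := by
    refine Submodule.mul_le.2 fun u hu v hv => ?_
    have hle : Submodule.span k {q} ⊔ ker N lam m 2 ≤
        Submodule.span k {q, p₁ * e, p₂ * e} ⊔ ker N lam m 2 :=
      sup_le_sup_right (Submodule.span_mono (by simp)) _
    obtain ⟨v₁, hv₁, v₂, hv₂, rfl⟩ := Submodule.mem_sup.1 (hgen hv)
    obtain ⟨α, β, δ, rfl⟩ : ∃ α β δ : k, v₁ = α • e + β • p₁ + δ • p₂ := by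
      obtain ⟨α, z, hz, rfl⟩ := Submodule.mem_span_insert.1 hv₁
      obtain ⟨β, δ, rfl⟩ := Submodule.mem_span_pair.1 hz
      exact ⟨α, β, δ, (add_assoc _ _ _).symm⟩
    simp only [mul_add, mul_smul_comm]
    refine add_mem (add_mem (add_mem (Submodule.smul_mem _ _ ?_)
      (Submodule.smul_mem _ _ (hle (hNp₁ u hu)))) (Submodule.smul_mem _ _ (hle (hNp₂ u hu))))
      (Submodule.mem_sup_right (h.mul_ker (mem_pow_one hu) hv₂ rfl))
    obtain ⟨u₁, hu₁, u₂, hu₂, rfl⟩ := Submodule.mem_sup.1 (hgen hu)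
    obtain ⟨a, z, hz, rfl⟩ := Submodule.mem_span_insert.1 hu₁
    obtain ⟨b, d, rfl⟩ := Submodule.mem_span_pair.1 hz
    simp only [add_mul, smul_mul_assoc]
    exact add_mem (add_mem (Submodule.smul_mem _ _ (hle hee)) (add_mem
      (Submodule.smul_mem _ _ (Submodule.mem_sup_left (Submodule.subset_span (by simp))))
      (Submodule.smul_mem _ _ (Submodule.mem_sup_left (Submodule.subset_span (by simp))))))
      (Submodule.mem_sup_right (h.ker_mul hu₂ (mem_pow_one he) rfl))
  have hline : ∀ {u z : R} {j : ℕ}, u ∈ N → z ∈ N ^ j → u * q * z ∈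
      Submodule.span k {q * p * z} ⊔ ker N lam m (3 + j) := by
    intro u z j hu hz
    obtain ⟨c₀, hc₀, r, hr, hur⟩ := Submodule.mem_sup.1 (hNq u hu)
    obtain ⟨c, rfl⟩ := Submodule.mem_span_singleton.1 hc₀
    rw [← hur, add_mul, smul_mul_assoc]
    exact Submodule.add_mem_sup (Submodule.smul_mem _ c (Submodule.mem_span_singleton_self _))
      (h.ker_mul hr hz rfl)
  have hpair₂ : ∀ {a b c z : R} {K : Submodule k R}, c ∈ ({a, b} : Set R) →
      z ∈ Submodule.span k {c} ⊔ K → z ∈ Submodule.span k {a, b} ⊔ K := fun {a b c z K} hc hz => by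
    obtain ⟨z₁, hz₁, z₂, hz₂, rfl⟩ := Submodule.mem_sup.1 hz
    obtain ⟨t, rfl⟩ := Submodule.mem_span_singleton.1 hz₁
    exact Submodule.add_mem_sup (Submodule.smul_mem _ t (Submodule.subset_span hc)) hz₂
  have hpow : ∀ j, N ^ (j + 3) ≤
      Submodule.span k {q * p ^ (j + 1), q * (p ^ j * e)} ⊔ ker N lam m (j + 3) := by
    intro j
    induction j with
    | zero =>
      rw [pow_succ' N 2, pow_two]
      refine Submodule.mul_le.2 fun u hu z hz => ?_
      simp only [zero_add, pow_one, pow_zero, one_mul]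
      obtain ⟨z₁, hz₁, z₂, hz₂, rfl⟩ := Submodule.mem_sup.1 (h2 hz)
      rw [mul_add]
      refine add_mem ?_ (Submodule.mem_sup_right (h.mul_ker (mem_pow_one hu) hz₂ rfl))
      have hqe : ∀ {w : R}, w ∈ Submodule.span k {q} ⊔ ker N lam m 2 →
          w * e ∈ Submodule.span k {q * p, q * e} ⊔ ker N lam m 3 := fun hw => by
        obtain ⟨w₁, hw₁, w₂, hw₂, rfl⟩ := Submodule.mem_sup.1 hw
        obtain ⟨c, rfl⟩ := Submodule.mem_span_singleton.1 hw₁
        rw [add_mul, smul_mul_assoc]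
        exact Submodule.add_mem_sup (Submodule.smul_mem _ c (Submodule.subset_span (by simp)))
          (h.ker_mul hw₂ (mem_pow_one he) rfl)
      obtain ⟨a, w, hw, rfl⟩ := Submodule.mem_span_insert.1 hz₁
      obtain ⟨b, d, rfl⟩ := Submodule.mem_span_pair.1 hw
      simp only [mul_add, mul_smul_comm, ← mul_assoc]
      exact add_mem (Submodule.smul_mem _ _ (hpair₂ (Or.inl rfl) (hNq u hu))) (add_mem (Submodule.smul_mem _ _ (hqe (hNp₁ u hu)))
          (Submodule.smul_mem _ _ (hqe (hNp₂ u hu))))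
    | succ j ih =>
      rw [pow_succ' N (j + 3)]
      refine Submodule.mul_le.2 fun u hu z hz => ?_
      obtain ⟨z₁, hz₁, z₂, hz₂, rfl⟩ := Submodule.mem_sup.1 (ih hz)
      obtain ⟨a, b, rfl⟩ := Submodule.mem_span_pair.1 hz₁
      rw [mul_add]
      refine add_mem ?_ (Submodule.mem_sup_right (h.mul_ker (mem_pow_one hu) hz₂ (by omega)))
      simp only [mul_add, mul_smul_comm]
      refine add_mem (Submodule.smul_mem _ _ ?_) (Submodule.smul_mem _ _ ?_)
      · rw [← mul_assoc u q]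
        have := hline (j := j + 1) hu (pow_mem hp _)
        rw [mul_assoc q p, ← pow_succ' p (j + 1), show 3 + (j + 1) = j + 1 + 3 by omega] at this
        exact hpair₂ (Or.inl rfl) this
      · rw [← mul_assoc u q]
        have := hline (j := j + 1) hu (mul_mem_pow (pow_mem hp j) (mem_pow_one he))
        rw [mul_assoc q p, ← mul_assoc p (p ^ j), ← pow_succ', show 3 + (j + 1) = j + 1 + 3 by omega]
          at this
        exact hpair₂ (Or.inr rfl) this
  have := h.finrank_le_ker_one_add (by omega) ![q * p ^ (m - 4 + 1), q * (p ^ (m - 4) * e)] (by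
    have := hpow (m - 4)
    rw [show m - 4 + 3 = m - 1 by omega] at this
    rwa [Matrix.range_cons, Matrix.range_cons, Matrix.range_empty, Set.union_empty,
      Set.singleton_union])
  omega

/-- With three generators the fourth power vanishes. -/
theorem three_gen_false (h : IsTraceData N lam m) (hm : 4 ≤ m)
    (hT : T = Submodule.span k {z | ∃ x ∈ N, ∃ y ∈ N, z = x * y - y * x}) {x y z : R}
    (hx : x ∈ N) (hy : y ∈ N) (hz : z ∈ N)
    (hgen : N ≤ Submodule.span k {x, y, z} ⊔ N * N)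
    (hn : Module.finrank k N = Module.finrank k ↥(N * N) + 3)
    (hdim : Module.finrank k ↥(N * N) ≤ Module.finrank k T + 1) : False := by
  obtain ⟨hTN, hlT, hcT⟩ := comm_facts h hT
  obtain ⟨s, hs, hs0⟩ := h.exists_top
  have hsN2 : s ∈ N * N := by rw [← pow_two]; exact h.pow_le (by omega) (by omega) hs
  have hsK : s ∈ ker N lam m 2 := h.mem_ker_of_pow (by omega) (by omega) hs
  have hsT : s ∉ T := fun h' => hs0 (hlT s h')
  have heq : T ⊔ Submodule.span k {s} = N * N := by
    refine Submodule.eq_of_le_of_finrank_le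
      (sup_le hTN ((Submodule.span_singleton_le_iff_mem _ _).2 hsN2)) ?_
    have := finrank_lt_sup_span hsT
    omega
  have hsle : Submodule.span k {s} ≤ ker N lam m 2 :=
    (Submodule.span_singleton_le_iff_mem _ _).2 hsK
  have hK1N : ker N lam m 1 ≤ N := ker_le.trans_eq (pow_one N)
  have hN2K1 : N * N ≤ ker N lam m 1 := by rw [← pow_two]; exact h.pow_le_ker le_rfl (by omega)
  have hcomm2K : comm2 N ≤ ker N lam m 2 :=
    comm2_le_pow_three.trans (h.pow_le_ker (by omega) (by omega))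
  have hkey : ∀ {u v : R}, u ∈ ker N lam m 1 → v ∈ N → u * v - v * u ∈ ker N lam m 2 := fun hu hv =>
    sub_mem (h.ker_mul hu (mem_pow_one hv) rfl) (h.mul_ker (mem_pow_one hv) hu rfl)
  by_cases hu1 : Module.finrank k N ≤ Module.finrank k (ker N lam m 1) + 2
  · obtain ⟨x', hx', y', hy', hgen'⟩ := SmallBlock.exists_le_span_sup_two hK1N hu1
    refine h.false_of_comm_line (by omega) hx' hy' hgen' ?_
    rw [← heq]
    refine sup_le (hT ▸ Submodule.span_le.2 ?_) (hsle.trans le_sup_right)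
    rintro _ ⟨u, hu, v, hv, rfl⟩
    obtain ⟨u₁, hu₁, u₂, hu₂, rfl⟩ := Submodule.mem_sup.1 (hgen' hu)
    obtain ⟨v₁, hv₁, v₂, hv₂, rfl⟩ := Submodule.mem_sup.1 (hgen' hv)
    rw [SetLike.mem_coe, show (u₁ + u₂) * (v₁ + v₂) - (v₁ + v₂) * (u₁ + u₂) =
      (u₁ * v₁ - v₁ * u₁) + ((u₂ * (v₁ + v₂) - (v₁ + v₂) * u₂) - (v₂ * u₁ - u₁ * v₂)) by
      noncomm_ring]
    refine Submodule.add_mem_sup (span_pair_comm hu₁ hv₁)
      (sub_mem (hkey hu₂ hv) (hkey hv₂ ?_))
    exact sup_le ((Submodule.span_singleton_le_iff_mem _ _).2 hx')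
      ((Submodule.span_singleton_le_iff_mem _ _).2 hy') hu₁
  have hV : Module.finrank k (Layer1 N lam m) = 3 := by
    have := finrank_layer1_add (k := k) (N := N) (lam := lam) (m := m)
    have := Submodule.finrank_mono hN2K1
    omega
  -- commutators span the second layer
  have hcspan : ⊤ ≤ Submodule.span k
      {z | ∃ u v, z = mul₂ h u v - mul₂ h v u} := by
    intro w _
    obtain ⟨u, hu, rfl⟩ := exists_cls₂ w
    obtain ⟨t, ht, r, hr, rfl⟩ := Submodule.mem_sup.1 (heq.ge hu)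
    have e : (cls₂ hu : Layer2 N lam m) = cls₂ (hTN ht) :=
      (cls₂_eq _ _).2 (by rw [add_sub_cancel_left]; exact hsle hr)
    rw [e]
    have hle : T ≤ ((Submodule.span k {z | ∃ u v, z = mul₂ h u v - mul₂ h v u}).comap
        ((ker N lam m 2).comap (N * N).subtype).mkQ).map (N * N).subtype := by
      rw [hT]
      refine Submodule.span_le.2 ?_
      rintro _ ⟨u, hu, v, hv, rfl⟩
      refine ⟨⟨u * v - v * u, sub_mem (Submodule.mul_mem_mul hu hv)
        (Submodule.mul_mem_mul hv hu)⟩, ?_, rfl⟩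
      exact Submodule.subset_span ⟨cls hu, cls hv, rfl⟩
    obtain ⟨⟨t', ht'⟩, hmem, rfl⟩ := hle ht
    exact hmem
  -- the commutators of the generators
  let C : Fin 3 → Layer2 N lam m :=
    ![mul₂ h (cls hx) (cls hy) - mul₂ h (cls hy) (cls hx),
      mul₂ h (cls hx) (cls hz) - mul₂ h (cls hz) (cls hx),
      mul₂ h (cls hy) (cls hz) - mul₂ h (cls hz) (cls hy)]
  have hgen1 : ⊤ ≤ Submodule.span k {cls hx, cls hy, (cls hz : Layer1 N lam m)} := by
    have := hgen.trans (sup_le_sup_left hN2K1 _)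
    intro w _
    obtain ⟨u, hu, rfl⟩ := exists_cls w
    obtain ⟨u₁, hu₁, u₂, hu₂, rfl⟩ := Submodule.mem_sup.1 (this hu)
    obtain ⟨a, u', hu', rfl⟩ := Submodule.mem_span_insert.1 hu₁
    obtain ⟨b, c, rfl⟩ := Submodule.mem_span_pair.1 hu'
    have e : (cls hu : Layer1 N lam m) = a • cls hx + (b • cls hy + c • cls hz) :=
      (cls_eq hu (add_mem (N.smul_mem a hx) (add_mem (N.smul_mem b hy) (N.smul_mem c hz)))).2
        (by simpa using hu₂)
    rw [e]
    exact Submodule.mem_span_insert.2 ⟨a, _, Submodule.mem_span_pair.2 ⟨b, c, rfl⟩, rfl⟩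
  have hCspan : ⊤ ≤ Submodule.span k (Set.range C) := by
    refine hcspan.trans (Submodule.span_le.2 ?_)
    rintro _ ⟨u, v, rfl⟩
    obtain ⟨a, u', hu', rfl⟩ := Submodule.mem_span_insert.1 (hgen1 (Submodule.mem_top (x := u)))
    obtain ⟨b, c, rfl⟩ := Submodule.mem_span_pair.1 hu'
    obtain ⟨a', v', hv', rfl⟩ := Submodule.mem_span_insert.1 (hgen1 (Submodule.mem_top (x := v)))
    obtain ⟨b', c', rfl⟩ := Submodule.mem_span_pair.1 hv'
    refine (Submodule.mem_span_range_iff_exists_fun k).2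
      ⟨![a * b' - b * a', a * c' - c * a', b * c' - c * b'], ?_⟩
    simp only [Fin.sum_univ_three, C, Matrix.cons_val, map_add, map_smul, LinearMap.add_apply,
      LinearMap.smul_apply]
    module
  have hQle : Module.finrank k (Layer2 N lam m) ≤ 3 := by
    have := (Submodule.finrank_mono hCspan).trans (finrank_range_le_card C)
    rwa [finrank_top, Fintype.card_fin] at this
  by_cases hfull : ∃ v, LinearMap.range (mul₂ h v) = ⊤
  · obtain ⟨v, hv⟩ := hfull
    obtain ⟨a, ha, rfl⟩ := exists_cls v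
    have hfull' := le_map_sup_of_range_eq_top h ha hv
    have hQ : Module.finrank k (Layer2 N lam m) = 3 :=
      (finrank_layer_eq h ha hfull' (by omega)).symm.trans hV
    have hli := linearIndependent_of_top_le_span_of_card_eq_finrank hCspan (by simp [hQ])
    have h3 : N ^ 3 ≤ comm2 N ⊔ ker N lam m 3 := by
      intro u hu
      obtain ⟨t, ht, r, hr, rfl⟩ := Submodule.mem_sup.1
        (heq.ge (by rw [← pow_two]; exact h.pow_le (by omega) (by omega) hu))
      have hS : Submodule.span k {x, y, z} ≤ N := Submodule.span_le.2 (by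
        rintro w (rfl | rfl | rfl) <;> assumption)
      have hC : ∀ u ∈ Submodule.span k {x, y, z}, ∀ v ∈ Submodule.span k {x, y, z},
          u * v - v * u ∈
            Submodule.span k {x * y - y * x, x * z - z * x, y * z - z * y} := by
        intro u hu v hv
        obtain ⟨a, u', hu', rfl⟩ := Submodule.mem_span_insert.1 hu
        obtain ⟨b, c, rfl⟩ := Submodule.mem_span_pair.1 hu'
        obtain ⟨a', v', hv', rfl⟩ := Submodule.mem_span_insert.1 hv
        obtain ⟨b', c', rfl⟩ := Submodule.mem_span_pair.1 hv'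
        refine Submodule.mem_span_insert.2 ⟨a * b' - b * a', _, Submodule.mem_span_pair.2
          ⟨a * c' - c * a', b * c' - c * b', rfl⟩, ?_⟩
        simp only [add_mul, mul_add, smul_mul_assoc, mul_smul_comm, smul_smul, smul_sub, sub_smul]
        module
      obtain ⟨t₁, ht₁, t₂, ht₂, rfl⟩ :=
        Submodule.mem_sup.1 (comm_mem_of_gen h.mul_le hS hgen hC hT ht)
      obtain ⟨a, t', ht', rfl⟩ := Submodule.mem_span_insert.1 ht₁
      obtain ⟨b, c, rfl⟩ := Submodule.mem_span_pair.1 ht'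
      have hr3 : r ∈ ker N lam m 3 := h.mem_ker_of_pow (by omega) (i := m) (by omega)
        ((Submodule.span_singleton_le_iff_mem _ _).2 hs hr)
      have h0 : a • (x * y - y * x) + (b • (x * z - z * x) + c • (y * z - z * y)) ∈
          ker N lam m 2 := by
        rw [show a • (x * y - y * x) + (b • (x * z - z * x) + c • (y * z - z * y)) =
          (a • (x * y - y * x) + (b • (x * z - z * x) + c • (y * z - z * y)) + t₂ + r) - t₂ - r by
          abel]
        exact sub_mem (sub_mem (h.mem_ker_of_pow (by omega) (by omega) hu) (hcomm2K ht₂))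
          (hsle hr)
      have hC0 := Fintype.linearIndependent_iff.1 hli ![a, b, c] (by
        simp only [Fin.sum_univ_three, C, Matrix.cons_val]
        rw [add_assoc]
        exact (cls₂_eq_zero (ker_le.trans_eq (pow_two N) h0)).2 h0)
      have ha0 : a = 0 := hC0 0
      have hb0 : b = 0 := hC0 1
      have hc0 : c = 0 := hC0 2
      rw [ha0, hb0, hc0, zero_smul, zero_smul, zero_smul, zero_add, zero_add, zero_add]
      exact Submodule.add_mem_sup ht₂ hr3
    have := (exists_pair_of_full h hm hV.le ha hfull' h3).1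
    omega
  push Not at hfull
  haveI : Nontrivial (Layer1 N lam m) := Module.nontrivial_of_finrank_pos (R := k) (by omega)
  have hQ2 : 2 ≤ Module.finrank k (Layer2 N lam m) := by
    by_contra hQ2
    obtain ⟨v, hv⟩ := exists_ne (0 : Layer1 N lam m)
    have h1 : 1 ≤ Module.finrank k (LinearMap.range (mul₂ h v)) :=
      Submodule.one_le_finrank_iff.2 fun h0 =>
        hv (mul₂_left_inj h (by omega) v (LinearMap.range_eq_bot.1 h0))
    have := Submodule.finrank_le (LinearMap.range (mul₂ h v))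
    exact hfull v (Submodule.eq_top_of_finrank_eq (by omega))
  have hQ : Module.finrank k (Layer2 N lam m) = 3 := by
    obtain ⟨v, hv⟩ := exists_two_le_rank (mul₂ h) (by omega) hQ2 (mul₂_left_inj h (by omega))
      (mul₂_right_inj h (by omega)) (mul₂_span h)
    have := Submodule.finrank_lt (hfull v)
    omega
  rcases theta_or_compression (mul₂ h) hV hQ (mul₂_left_inj h (by omega))
    (mul₂_right_inj h (by omega)) (mul₂_span h) hfull with
    ⟨θ, hθ, hθ0⟩ | ⟨P, hP, q, hq⟩
  · exact false_of_theta h hm hV θ hθ hθ0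
  have hq0 : q ≠ 0 := by
    intro h0
    obtain ⟨p, hp, hp0⟩ := Submodule.exists_mem_ne_zero_of_ne_bot (p := P) (by
      intro hb; rw [hb, finrank_bot] at hP; omega)
    refine hp0 (mul₂_right_inj h (by omega) p fun v => ?_)
    simpa [h0] using hq v p hp
  obtain ⟨w₀, -, hw₀⟩ := SetLike.exists_of_lt
    (lt_top_iff_ne_top.2 fun h0 : P = ⊤ => by rw [h0, finrank_top] at hP; omega)
  set Q0 := Submodule.span k {q}
  set f := Q0.mkQ.comp ((mul₂ h).flip w₀)
  obtain ⟨v₀, hv₀, hv₀0⟩ := Submodule.exists_mem_ne_zero_of_ne_bot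
    (p := LinearMap.ker f) (by
      intro h0
      have h1 := LinearMap.finrank_range_add_finrank_ker f
      rw [h0, finrank_bot] at h1
      have h2 := Submodule.finrank_le (LinearMap.range f)
      have h3 : Module.finrank k (Layer2 N lam m ⧸ Q0) + Module.finrank k Q0 = _ :=
        Submodule.finrank_quotient_add_finrank Q0
      have h4 : Module.finrank k Q0 = 1 := finrank_span_singleton hq0
      omega)
  have hv₀q : mul₂ h v₀ w₀ ∈ Q0 := (Submodule.Quotient.mk_eq_zero _).1 hv₀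
  have hPw : P ⊔ Submodule.span k {w₀} = ⊤ := by
    refine Submodule.eq_top_of_finrank_eq (le_antisymm (Submodule.finrank_le _) ?_)
    have h1 : Module.finrank k P < Module.finrank k ↥(P ⊔ Submodule.span k {w₀}) :=
      Submodule.finrank_lt_finrank_of_lt (lt_of_le_not_ge le_sup_left fun hle =>
        hw₀ (hle (Submodule.mem_sup_right (Submodule.mem_span_singleton_self _))))
    omega
  have hsmall : ∀ (W : Submodule k (Layer2 N lam m)), (∀ u v, mul₂ h u v - mul₂ h v u ∈ W) →
      3 ≤ Module.finrank k W := by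
    intro W hW
    have hle : Submodule.span k {z | ∃ u v, z = mul₂ h u v - mul₂ h v u} ≤ W :=
      Submodule.span_le.2 (by rintro _ ⟨u, v, rfl⟩; exact hW u v)
    have := Submodule.finrank_mono (hcspan.trans hle)
    rwa [finrank_top, hQ] at this
  have hpair : ∀ a b : Layer2 N lam m, Module.finrank k (Submodule.span k {a, b}) ≤ 2 := by
    intro a b
    classical
    have := finrank_span_finset_le_card (R := k) ({a, b} : Finset (Layer2 N lam m))
    rw [Set.finrank, Finset.coe_pair] at this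
    exact this.trans ((Finset.card_insert_le _ _).trans (by simp))
  have hv₀P : v₀ ∉ P := by
    intro hmem
    obtain ⟨p, hp, hPp⟩ := exists_gen_of_two hP hmem hv₀0
    have hW := hsmall (Submodule.span k {q, mul₂ h p w₀}) fun u v => by
      obtain ⟨pu, hpu, wu, hwu, rfl⟩ := Submodule.mem_sup.1 (hPw.ge (Submodule.mem_top (x := u)))
      obtain ⟨α, rfl⟩ := Submodule.mem_span_singleton.1 hwu
      obtain ⟨pv, hpv, wv, hwv, rfl⟩ := Submodule.mem_sup.1 (hPw.ge (Submodule.mem_top (x := v)))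
      obtain ⟨β, rfl⟩ := Submodule.mem_span_singleton.1 hwv
      have hPW : ∀ r ∈ P, mul₂ h r w₀ ∈ Submodule.span k {q, mul₂ h p w₀} := by
        intro r hr
        obtain ⟨a, b, rfl⟩ := Submodule.mem_span_pair.1 (hPp hr)
        rw [map_add, map_smul, map_smul, LinearMap.add_apply, LinearMap.smul_apply,
          LinearMap.smul_apply]
        exact add_mem (Submodule.smul_mem _ _ (Submodule.span_mono (by simp) hv₀q))
          (Submodule.smul_mem _ _ (Submodule.subset_span (by simp)))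
      have hqW : ∀ {w}, w ∈ Q0 → w ∈ Submodule.span k {q, mul₂ h p w₀} := fun hw =>
        Submodule.span_mono (by simp) hw
      rw [show mul₂ h (pu + α • w₀) (pv + β • w₀) - mul₂ h (pv + β • w₀) (pu + α • w₀) =
        (mul₂ h pu pv - mul₂ h pv pu) + α • (mul₂ h w₀ pv - mul₂ h pv w₀) -
          β • (mul₂ h w₀ pu - mul₂ h pu w₀) by
        simp only [map_add, map_smul, LinearMap.add_apply, LinearMap.smul_apply]; module]
      exact sub_mem (add_mem (sub_mem (hqW (hq _ _ hpv)) (hqW (hq _ _ hpu)))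
        (Submodule.smul_mem _ _ (sub_mem (hqW (hq _ _ hpv)) (hPW _ hpv))))
        (Submodule.smul_mem _ _ (sub_mem (hqW (hq _ _ hpu)) (hPW _ hpu)))
    have := hpair q (mul₂ h p w₀)
    omega
  have hv₀₀ : mul₂ h v₀ v₀ ∈ Q0 := by
    obtain ⟨p, hp, w, hw, hpw⟩ := Submodule.mem_sup.1 (hPw.ge (Submodule.mem_top (x := v₀)))
    obtain ⟨α, rfl⟩ := Submodule.mem_span_singleton.1 hw
    rw [show mul₂ h v₀ v₀ = mul₂ h v₀ p + α • mul₂ h v₀ w₀ by rw [← map_smul, ← map_add, hpw]]
    exact add_mem (hq _ _ hp) (Submodule.smul_mem _ _ hv₀q)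
  let bP := Module.finBasisOfFinrankEq k P hP
  have hPgen : P ≤ Submodule.span k {(bP 0 : Layer1 N lam m), (bP 1 : Layer1 N lam m)} := by
    intro r hr
    refine Submodule.mem_span_pair.2 ⟨bP.repr ⟨r, hr⟩ 0, bP.repr ⟨r, hr⟩ 1, ?_⟩
    have h' := bP.sum_repr ⟨r, hr⟩
    rw [Fin.sum_univ_two] at h'
    exact congrArg Subtype.val h' 
  have hPv : P ⊔ Submodule.span k {v₀} = ⊤ := by
    refine Submodule.eq_top_of_finrank_eq (le_antisymm (Submodule.finrank_le _) ?_)
    have h1 : Module.finrank k P < Module.finrank k ↥(P ⊔ Submodule.span k {v₀}) :=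
      Submodule.finrank_lt_finrank_of_lt (lt_of_le_not_ge le_sup_left fun hle =>
        hv₀P (hle (Submodule.mem_sup_right (Submodule.mem_span_singleton_self _))))
    omega
  obtain ⟨π₀, π, hπ₀, hπ, hππ⟩ : ∃ π₀ π, π₀ ∈ P ∧ π ∈ P ∧ mul₂ h π₀ π ≠ 0 := by
    by_contra! h0
    have hW := hsmall (Submodule.span k {mul₂ h v₀ (bP 0 : Layer1 N lam m) - mul₂ h (bP 0 : Layer1 N lam m) v₀,
      mul₂ h v₀ (bP 1 : Layer1 N lam m) - mul₂ h (bP 1 : Layer1 N lam m) v₀}) fun u v => by
      obtain ⟨pu, hpu, wu, hwu, rfl⟩ := Submodule.mem_sup.1 (hPv.ge (Submodule.mem_top (x := u)))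
      obtain ⟨α, rfl⟩ := Submodule.mem_span_singleton.1 hwu
      obtain ⟨pv, hpv, wv, hwv, rfl⟩ := Submodule.mem_sup.1 (hPv.ge (Submodule.mem_top (x := v)))
      obtain ⟨β, rfl⟩ := Submodule.mem_span_singleton.1 hwv
      obtain ⟨a, b, hab⟩ := Submodule.mem_span_pair.1 (hPgen hpu)
      obtain ⟨c, d, hcd⟩ := Submodule.mem_span_pair.1 (hPgen hpv)
      refine Submodule.mem_span_pair.2 ⟨α * c - β * a, α * d - β * b, ?_⟩
      rw [show mul₂ h (pu + α • v₀) (pv + β • v₀) - mul₂ h (pv + β • v₀) (pu + α • v₀) =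
        (mul₂ h pu pv - mul₂ h pv pu) + α • (mul₂ h v₀ pv - mul₂ h pv v₀) -
          β • (mul₂ h v₀ pu - mul₂ h pu v₀) by
        simp only [map_add, map_smul, LinearMap.add_apply, LinearMap.smul_apply]; module,
        h0 _ _ hpu hpv, h0 _ _ hpv hpu, ← hab, ← hcd]
      simp only [map_add, map_smul, LinearMap.add_apply, LinearMap.smul_apply]
      module
    have := hpair (mul₂ h v₀ (bP 0 : Layer1 N lam m) - mul₂ h (bP 0 : Layer1 N lam m) v₀)
      (mul₂ h v₀ (bP 1 : Layer1 N lam m) - mul₂ h (bP 1 : Layer1 N lam m) v₀)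
    omega
  -- lift
  obtain ⟨qq, hqq, hqq'⟩ := exists_cls₂ q
  have hlift : ∀ {u v : R} (hu : u ∈ N) (hv : v ∈ N), mul₂ h (cls hu) (cls hv) ∈ Q0 →
      u * v ∈ Submodule.span k {qq} ⊔ ker N lam m 2 := fun {u v} hu hv hmem => by
    obtain ⟨c, hc⟩ := Submodule.mem_span_singleton.1 hmem
    rw [← hqq', mul₂_cls] at hc
    rw [show u * v = c • qq + (u * v - c • qq) by abel]
    exact Submodule.add_mem_sup (Submodule.smul_mem _ c (Submodule.mem_span_singleton_self _))
      ((cls₂_eq (Submodule.mul_mem_mul hu hv) (Submodule.smul_mem _ c hqq)).1 hc.symm)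
  obtain ⟨e, he, rfl⟩ := exists_cls v₀
  obtain ⟨p₁, hp₁, hp₁'⟩ := exists_cls (bP 0 : Layer1 N lam m)
  obtain ⟨p₂, hp₂, hp₂'⟩ := exists_cls (bP 1 : Layer1 N lam m)
  obtain ⟨p₀, hp₀, rfl⟩ := exists_cls π₀
  obtain ⟨p, hp, rfl⟩ := exists_cls π
  refine false_of_compression h hm (by omega) hqq he hp₁ hp₂ hp₀ hp ?_ (hlift he he hv₀₀)
    (fun u hu => hlift hu hp₁ (hq _ _ (hp₁' ▸ (bP 0).2)))
    (fun u hu => hlift hu hp₂ (hq _ _ (hp₂' ▸ (bP 1).2)))
    (fun u hu => hlift hu hp₀ (hq _ _ hπ₀)) (hlift hp₀ hp (hq _ _ hπ))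
    (fun h0 => hππ ((cls₂_eq_zero (Submodule.mul_mem_mul hp₀ hp)).2 h0))
  have := le_span_sup_ker (N := N) (lam := lam) (m := m) (f := ![e, p₁, p₂])
    (fun i => by fin_cases i <;> assumption) (by
      rw [← hPv, sup_le_iff]
      refine ⟨hPgen.trans (Submodule.span_le.2 ?_),
        (Submodule.span_singleton_le_iff_mem _ _).2 (Submodule.subset_span ⟨0, rfl⟩)⟩
      rintro w (rfl | rfl)
      · exact Submodule.subset_span ⟨1, hp₁'⟩
      · exact Submodule.subset_span ⟨2, hp₂'⟩)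
  rwa [Matrix.range_cons, Matrix.range_cons, Matrix.range_cons, Matrix.range_empty, Set.union_empty,
    Set.singleton_union, Set.singleton_union] at this

end CfsgLib.SmallBlock.Five
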