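import Cfsg.Agent.SmallBlock.Five.Alternating
import Cfsg.Agent.SmallBlock.Five.Full
import Cfsg.Agent.SmallBlock.Five.SingularPencil

/-!
# Two generators: the fifth power vanishes
-/

set_option autoImplicit false
set_option linter.unusedSectionVars false
set_option linter.style.haveILetI false

namespace CfsgLib.SmallBlock.Five

open scoped Pointwise

variable {k R : Type*} [Field k] [IsAlgClosed k] [Ring R] [Algebra k R] [FiniteDimensional k R]
  {N T : Submodule k R} {lam : R →ₗ[k] k} {m : ℕ}

/-- The basic facts on the commutators. -/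
theorem comm_facts (h : IsTraceData N lam m)
    (hT : T = Submodule.span k {z | ∃ x ∈ N, ∃ y ∈ N, z = x * y - y * x}) :
    T ≤ N * N ∧ (∀ z ∈ T, lam z = 0) ∧ comm2 N ≤ T := by
  refine ⟨hT ▸ Submodule.span_le.2 ?_, fun z hz => ?_, Submodule.span_le.2 ?_⟩
  · rintro _ ⟨x, hx, y, hy, rfl⟩
    exact sub_mem (Submodule.mul_mem_mul hx hy) (Submodule.mul_mem_mul hy hx)
  · rw [hT] at hz
    induction hz using Submodule.span_induction with
    | mem z hz => obtain ⟨x, _, y, _, rfl⟩ := hz; rw [map_sub, h.cyc, sub_self]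
    | zero => simp
    | add u v _ _ hu hv => rw [map_add, hu, hv, add_zero]
    | smul r u _ hu => rw [map_smul, hu, smul_zero]
  · rintro _ ⟨x, hx, q, hq, rfl⟩
    exact hT ▸ Submodule.subset_span ⟨x, hx, q, h.mul_le hq, rfl⟩

theorem comm_mem_of_gen {S C : Submodule k R} (hN : N * N ≤ N) (hS : S ≤ N)
    (hgen : N ≤ S ⊔ N * N) (hC : ∀ x ∈ S, ∀ y ∈ S, x * y - y * x ∈ C)
    (hT : T = Submodule.span k {z | ∃ x ∈ N, ∃ y ∈ N, z = x * y - y * x}) :
    T ≤ C ⊔ comm2 N := hT ▸ Submodule.span_le.2 (by
  rintro _ ⟨u, hu, v, hv, rfl⟩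
  exact comm_mem_sup hN hS hgen hC hu hv)

theorem span_pair_comm {x y u v : R} (hu : u ∈ Submodule.span k {x} ⊔ Submodule.span k {y})
    (hv : v ∈ Submodule.span k {x} ⊔ Submodule.span k {y}) :
    u * v - v * u ∈ Submodule.span k {x * y - y * x} := by
  obtain ⟨p, hp, q, hq, rfl⟩ := Submodule.mem_sup.1 hu
  obtain ⟨p', hp', q', hq', rfl⟩ := Submodule.mem_sup.1 hv
  obtain ⟨α, rfl⟩ := Submodule.mem_span_singleton.1 hp
  obtain ⟨β, rfl⟩ := Submodule.mem_span_singleton.1 hq
  obtain ⟨γ, rfl⟩ := Submodule.mem_span_singleton.1 hp'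
  obtain ⟨δ, rfl⟩ := Submodule.mem_span_singleton.1 hq'
  refine Submodule.mem_span_singleton.2 ⟨α * δ - β * γ, ?_⟩
  simp only [add_mul, mul_add, smul_mul_assoc, mul_smul_comm, smul_smul, smul_sub, sub_smul]
  module

/-- All squares of the first layer vanish: the third power is in the trace kernel. -/
theorem false_of_squares (h : IsTraceData N lam m) (hm : 3 ≤ m) {x y : R} (hx : x ∈ N) (hy : y ∈ N)
    (hgen : N ≤ Submodule.span k {x} ⊔ Submodule.span k {y} ⊔ ker N lam m 1)
    (hxx : x * x ∈ ker N lam m 2) (hyy : y * y ∈ ker N lam m 2)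
    (hc : x * y - y * x ∈ ker N lam m 2) : False := by
  refine h.not_pow_le_ker hm ((h.pow_le_pow_sup
    (sup_le ((Submodule.span_singleton_le_iff_mem x N).2 hx)
      ((Submodule.span_singleton_le_iff_mem y N).2 hy)) hgen 2).trans (sup_le ?_ le_rfl))
  have hl : ∀ {u r : R}, u ∈ N → r ∈ ker N lam m 2 → u * r ∈ ker N lam m 3 := fun hu hr =>
    h.mul_ker (mem_pow_one hu) hr rfl
  have hr : ∀ {u r : R}, r ∈ ker N lam m 2 → u ∈ N → r * u ∈ ker N lam m 3 := fun hr hu =>
    h.ker_mul hr (mem_pow_one hu) rfl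
  have hyxx : y * x * x ∈ ker N lam m 3 := by rw [mul_assoc]; exact hl hy hxx
  have hxyy : x * y * y ∈ ker N lam m 3 := by rw [mul_assoc]; exact hl hx hyy
  have hxyx : x * y * x ∈ ker N lam m 3 := by
    rw [show x * y * x = (x * y - y * x) * x + y * x * x by noncomm_ring]
    exact add_mem (hr hc hx) hyxx
  have hyxy : y * x * y ∈ ker N lam m 3 := by
    rw [show y * x * y = x * y * y - (x * y - y * x) * y by noncomm_ring]
    exact sub_mem hxyy (hr hc hy)
  rw [← Submodule.span_union, Set.singleton_union, Submodule.span_pow, Submodule.span_le,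
    show (2 : ℕ) + 1 = 1 + 1 + 1 from rfl, pow_succ, pow_succ, pow_one]
  rintro _ ⟨_, ⟨a, ha, b, hb, rfl⟩, c, hc', rfl⟩
  rcases ha with rfl | rfl <;> rcases hb with rfl | rfl <;> rcases hc' with rfl | rfl
  exacts [hr hxx hx, hr hxx hy, hxyx, hxyy, hyxx, hyxy, hr hyy hx, hr hyy hy]

/-- The second layer is a line of squares. -/
theorem false_of_square_line (h : IsTraceData N lam m) (hm : 4 ≤ m)
    (hT : T = Submodule.span k {z | ∃ x ∈ N, ∃ y ∈ N, z = x * y - y * x})
    (hn : Module.finrank k N = Module.finrank k ↥(N * N) + 2)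
    (hdim : Module.finrank k ↥(N * N) ≤ Module.finrank k T + 2)
    (hT2 : T ≤ ker N lam m 2) {a : R} (ha : a ∈ N) (haa : a * a ∉ ker N lam m 2) : False := by
  obtain ⟨hTN, hlT, -⟩ := comm_facts h hT
  obtain ⟨s, hs, hs0⟩ := h.exists_top
  have hsK : s ∈ ker N lam m 2 := h.mem_ker_of_pow (by omega) (by omega) hs
  have hsT : s ∉ T := fun h' => hs0 (hlT s h')
  set W := T ⊔ Submodule.span k {s} with hW
  have hWK : W ≤ ker N lam m 2 := sup_le hT2 ((Submodule.span_singleton_le_iff_mem _ _).2 hsK)
  have haW : a * a ∉ W := fun h' => haa (hWK h')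
  have hsN2 : s ∈ N * N := by rw [← pow_two]; exact h.pow_le (by omega) (by omega) hs
  have haN2 : a * a ∈ N * N := Submodule.mul_mem_mul ha ha
  have heq : W ⊔ Submodule.span k {a * a} = N * N := by
    refine Submodule.eq_of_le_of_finrank_le (sup_le (sup_le hTN
      ((Submodule.span_singleton_le_iff_mem _ _).2 hsN2))
      ((Submodule.span_singleton_le_iff_mem _ _).2 haN2)) ?_
    have h1 := finrank_lt_sup_span hsT
    have h2 := finrank_lt_sup_span haW
    rw [← hW] at h1
    omega
  have hline : ∀ j, N ^ (j + 2) ≤ Submodule.span k {a ^ (j + 2)} ⊔ ker N lam m (j + 2) := by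
    intro j
    induction j with
    | zero =>
      rw [pow_two, pow_two, ← heq]
      exact sup_le (hWK.trans le_sup_right) le_sup_left
    | succ j ih =>
      rw [pow_succ' N]
      refine Submodule.mul_le.2 fun u hu z hz => ?_
      obtain ⟨p, hp, r, hr, rfl⟩ := Submodule.mem_sup.1 (ih hz)
      obtain ⟨β, rfl⟩ := Submodule.mem_span_singleton.1 hp
      obtain ⟨p, hp, r', hr', he⟩ := Submodule.mem_sup.1
        (heq.ge (Submodule.mul_mem_mul hu ha))
      obtain ⟨γ, rfl⟩ := Submodule.mem_span_singleton.1 hr'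
      rw [mul_add, mul_smul_comm, show a ^ (j + 2) = a * a ^ (j + 1) from pow_succ' a (j + 1),
        ← mul_assoc u, ← he, add_mul, smul_mul_assoc,
        show a * a * a ^ (j + 1) = a ^ (j + 1 + 2) by
          rw [mul_assoc, ← pow_succ', ← pow_succ']]
      refine add_mem (Submodule.smul_mem _ β (add_mem (Submodule.mem_sup_right ?_)
        (Submodule.smul_mem _ γ (Submodule.mem_sup_left (Submodule.mem_span_singleton_self _)))))
        (Submodule.mem_sup_right (h.mul_ker (mem_pow_one hu) hr (by omega)))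
      exact h.ker_mul (hWK hp) (pow_mem ha (j + 1)) (by omega)
  have hN1 := h.finrank_le_ker_one_add (by omega) ![a ^ (m - 1)] (by
    have := hline (m - 3)
    rw [show m - 3 + 2 = m - 1 by omega] at this
    simpa using this)
  have haK : a ∉ ker N lam m 1 := fun h' => haa (h.mul_ker (mem_pow_one ha) h' rfl)
  have hK1 : ker N lam m 1 ≤ N := ker_le.trans_eq (pow_one N)
  have hgen : Submodule.span k {a} ⊔ ker N lam m 1 = N := by
    refine Submodule.eq_of_le_of_finrank_le
      (sup_le ((Submodule.span_singleton_le_iff_mem _ _).2 ha) hK1) ?_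
    have := finrank_lt_sup_span haK
    rw [sup_comm] at this
    omega
  have hN2K1 : N * N ≤ ker N lam m 1 := by
    rw [← pow_two]; exact h.pow_le_ker le_rfl (by omega)
  obtain ⟨y, hy, hKy⟩ := SmallBlock.exists_le_span_sup_one hN2K1 (by
    have := Submodule.finrank_lt_finrank_of_lt (lt_of_le_not_ge hK1 fun h' => haK (h' ha))
    omega)
  -- the cube of `a`
  set i := m - 3 with hi
  have hTa : ∀ t ∈ T, lam (t * a ^ i) = 0 := by
    intro t ht
    rw [hT] at ht
    induction ht using Submodule.span_induction with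
    | mem t ht =>
      obtain ⟨u, hu, v, hv, rfl⟩ := ht
      have hca : ∀ w, lam ((a * w - w * a) * a ^ i) = 0 := fun w => by
        rw [sub_mul, map_sub, mul_assoc a, h.cyc a, mul_assoc w a, mul_assoc w, ← pow_succ',
          ← pow_succ, sub_self]
      have hyp : ∀ {q : R}, q ∈ N * N → lam (y * (q * a ^ i)) = 0 ∧ lam (y * (a ^ i * q)) = 0 := by
        intro q hq
        rw [← pow_two] at hq
        exact ⟨hy.2 _ (by
            have := mul_mem_pow hq (pow_mem ha i)
            rwa [show 2 + i = m - 1 by omega] at this),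
          hy.2 _ (by
            have := mul_mem_pow (pow_mem ha i) hq
            rwa [show i + 2 = m - 1 by omega] at this)⟩
      obtain ⟨p, hp, u', hu', rfl⟩ := Submodule.mem_sup.1 (hgen.ge hu)
      obtain ⟨α, rfl⟩ := Submodule.mem_span_singleton.1 hp
      obtain ⟨p, hp, v', hv', rfl⟩ := Submodule.mem_sup.1 (hgen.ge hv)
      obtain ⟨β, rfl⟩ := Submodule.mem_span_singleton.1 hp
      obtain ⟨p, hp, q, hq, hu''⟩ := Submodule.mem_sup.1 (hKy hu')
      obtain ⟨γ, rfl⟩ := Submodule.mem_span_singleton.1 hp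
      obtain ⟨p, hp, q', hq', hv''⟩ := Submodule.mem_sup.1 (hKy hv')
      obtain ⟨δ, rfl⟩ := Submodule.mem_span_singleton.1 hp
      have hqq : q * q' * a ^ i = 0 ∧ q' * q * a ^ i = 0 := by
        have h2 : q ∈ N ^ 2 ∧ q' ∈ N ^ 2 := ⟨by rwa [pow_two], by rwa [pow_two]⟩
        exact ⟨h.eq_zero (i := 2 + 2 + i) (by omega)
            (mul_mem_pow (mul_mem_pow h2.1 h2.2) (pow_mem ha i)),
          h.eq_zero (i := 2 + 2 + i) (by omega)
            (mul_mem_pow (mul_mem_pow h2.2 h2.1) (pow_mem ha i))⟩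
      rw [show (α • a + u') * (β • a + v') - (β • a + v') * (α • a + u') =
          α • (a * v' - v' * a) - β • (a * u' - u' * a) + (u' * v' - v' * u') by
        simp only [add_mul, mul_add, smul_mul_assoc, mul_smul_comm, smul_sub, smul_smul]; module]
      rw [add_mul, sub_mul, smul_mul_assoc, smul_mul_assoc, map_add, map_sub, map_smul, map_smul,
        hca, hca, ← hu'', ← hv'']
      simp only [add_mul, mul_add, sub_mul, smul_mul_assoc, mul_smul_comm, map_add, map_sub,
        map_smul, smul_smul, smul_add, mul_assoc]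
      rw [← mul_assoc q q', ← mul_assoc q' q, hqq.1, hqq.2, (hyp hq').1, (hyp hq).1,
        h.cyc q' (y * a ^ i), mul_assoc y, h.cyc q (y * a ^ i), mul_assoc y, (hyp hq').2,
        (hyp hq).2, map_zero]
      simp [mul_comm γ]
    | zero => simp
    | add u v _ _ hu hv => rw [add_mul, map_add, hu, hv, add_zero]
    | smul c u _ hu => rw [smul_mul_assoc, map_smul, hu, smul_zero]
  have ha3 : a ^ 3 ∈ N ^ 3 := pow_mem ha 3
  obtain ⟨p, hp, q, hq, he⟩ := Submodule.mem_sup.1
    (heq.ge (by rw [← pow_two]; exact h.pow_le (by omega) (by omega) ha3 :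
      a ^ 3 ∈ N * N))
  obtain ⟨α, rfl⟩ := Submodule.mem_span_singleton.1 hq
  have hα : α = 0 := by
    by_contra hα
    refine haa ((Submodule.smul_mem_iff _ hα).1 ?_)
    rw [show α • (a * a) = a ^ 3 - p by rw [← he]; abel]
    exact sub_mem (h.mem_ker_of_pow (by omega) (by omega) ha3) (hWK hp)
  rw [hα, zero_smul, add_zero] at he
  obtain ⟨t, ht, u, hu, htu⟩ := Submodule.mem_sup.1 hp
  obtain ⟨β, rfl⟩ := Submodule.mem_span_singleton.1 hu
  have ham : lam (a ^ m) = 0 := by
    rw [show m = 3 + i by omega, pow_add, ← he, ← htu, add_mul, map_add, hTa t ht, smul_mul_assoc,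
      h.eq_zero (i := m + i) (by omega) (mul_mem_pow hs (pow_mem ha i))]
    simp
  obtain ⟨p, hp, r, hr, hsr⟩ := Submodule.mem_sup.1
    (hline (m - 2) (by rwa [show m - 2 + 2 = m by omega]))
  obtain ⟨c, rfl⟩ := Submodule.mem_span_singleton.1 hp
  rw [show m - 2 + 2 = m by omega] at hr hsr
  exact hs0 (by rw [← hsr, h.eq_zero_of_ker_top hr, add_zero, map_smul, ham, smul_zero])

/-- With two generators the fifth power vanishes. -/
theorem two_gen_false (h : IsTraceData N lam m) (hm : 5 ≤ m)
    (hT : T = Submodule.span k {z | ∃ x ∈ N, ∃ y ∈ N, z = x * y - y * x}) {x y : R} (hx : x ∈ N)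
    (hy : y ∈ N) (hgen : N ≤ Submodule.span k {x} ⊔ Submodule.span k {y} ⊔ N * N)
    (hn : Module.finrank k N = Module.finrank k ↥(N * N) + 2)
    (hdim : Module.finrank k ↥(N * N) ≤ Module.finrank k T + 2) : False := by
  obtain ⟨hTN, hlT, hcT⟩ := comm_facts h hT
  set c := x * y - y * x with hc
  set K1 := ker N lam m 1 with hK1
  set K2 := ker N lam m 2 with hK2
  have hS : Submodule.span k {x} ⊔ Submodule.span k {y} ≤ N :=
    sup_le ((Submodule.span_singleton_le_iff_mem x N).2 hx)
      ((Submodule.span_singleton_le_iff_mem y N).2 hy)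
  have hN2K1 : N * N ≤ K1 := by rw [← pow_two]; exact h.pow_le_ker le_rfl (by omega)
  have hgen1 := hgen.trans (sup_le_sup_left hN2K1 _)
  have hTc : T ≤ Submodule.span k {c} ⊔ comm2 N :=
    comm_mem_of_gen h.mul_le hS hgen (fun u hu v hv => span_pair_comm hu hv) hT
  have hcomm2K : comm2 N ≤ K2 := comm2_le_pow_three.trans (h.pow_le_ker (by omega) (by omega))
  by_cases hcK : c ∈ K2
  · have hT2 : T ≤ K2 :=
      hTc.trans (sup_le ((Submodule.span_singleton_le_iff_mem _ _).2 hcK) hcomm2K)
    by_cases hsq : ∀ a ∈ N, a * a ∈ K2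
    · exact false_of_squares h (by omega) hx hy hgen1 (hsq x hx) (hsq y hy) hcK
    · push Not at hsq
      obtain ⟨a, ha, haa⟩ := hsq
      exact false_of_square_line h (by omega) hT hn hdim hT2 ha haa
  by_cases hline : N * N ≤ Submodule.span k {c} ⊔ K2
  · exact h.false_of_comm_line (by omega) hx hy hgen1 hline
  obtain ⟨w, hw, hwc⟩ := SetLike.not_le_iff_exists.1 hline
  obtain ⟨s, hs, hs0⟩ := h.exists_top
  have hsK : s ∈ K2 := h.mem_ker_of_pow (by omega) (by omega) hs
  have hsN2 : s ∈ N * N := by rw [← pow_two]; exact h.pow_le (by omega) (by omega) hs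
  have hsT : s ∉ T := fun h' => hs0 (hlT s h')
  have hwW : w ∉ T ⊔ Submodule.span k {s} := fun h' => hwc (sup_le (hTc.trans
    (sup_le_sup_left hcomm2K _)) (((Submodule.span_singleton_le_iff_mem _ _).2 hsK).trans
      le_sup_right) h')
  have heq : T ⊔ Submodule.span k {s} ⊔ Submodule.span k {w} = N * N := by
    refine Submodule.eq_of_le_of_finrank_le (sup_le (sup_le hTN
      ((Submodule.span_singleton_le_iff_mem _ _).2 hsN2))
      ((Submodule.span_singleton_le_iff_mem _ _).2 hw)) ?_
    have h1 := finrank_lt_sup_span hsT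
    have h2 := finrank_lt_sup_span hwW
    omega
  -- the third power
  have h3 : N ^ 3 ≤ comm2 N ⊔ N ^ m := by
    intro u hu
    have hu2 : u ∈ N * N := by rw [← pow_two]; exact h.pow_le (by omega) (by omega) hu
    obtain ⟨p, hp, q, hq, rfl⟩ := Submodule.mem_sup.1 (heq.ge hu2)
    obtain ⟨t, ht, r, hr, rfl⟩ := Submodule.mem_sup.1 hp
    obtain ⟨t₁, ht₁, t₂, ht₂, rfl⟩ := Submodule.mem_sup.1 (hTc ht)
    obtain ⟨α, rfl⟩ := Submodule.mem_span_singleton.1 ht₁
    obtain ⟨γ, rfl⟩ := Submodule.mem_span_singleton.1 hq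
    have hr' : r ∈ N ^ m := (Submodule.span_singleton_le_iff_mem _ _).2 hs hr
    have hrest : α • c + γ • w ∈ K2 := by
      rw [show α • c + γ • w = (α • c + t₂ + r + γ • w) - t₂ - r by abel]
      exact sub_mem (sub_mem (h.mem_ker_of_pow (by omega) (by omega) hu) (hcomm2K ht₂))
        (h.mem_ker_of_pow (by omega) (by omega) hr')
    have hγ : γ = 0 := by
      by_contra hγ
      refine hwc ((Submodule.smul_mem_iff _ hγ).1 ?_)
      rw [show γ • w = -(α • c) + (α • c + γ • w) by abel]
      exact Submodule.add_mem_sup (neg_mem (Submodule.smul_mem _ _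
        (Submodule.mem_span_singleton_self c))) hrest
    rw [hγ, zero_smul, add_zero] at hrest
    have hα : α = 0 := by
      by_contra hα
      exact hcK ((Submodule.smul_mem_iff _ hα).1 hrest)
    rw [hγ, hα, zero_smul, zero_smul, zero_add, add_zero]
    exact Submodule.add_mem_sup ht₂ hr'
  have hK2N : K2 ≤ N * N := ker_le.trans_eq (pow_two N)
  have hK2eq : N ^ 3 = K2 := by
    refine Submodule.eq_of_le_of_finrank_le (h.pow_le_ker (by omega) (by omega)) ?_
    have hle : N * N ≤ N ^ 3 ⊔ Submodule.span k {c} ⊔ Submodule.span k {w} := by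
      rw [← heq]
      refine sup_le_sup_right (sup_le (hTc.trans (sup_le le_sup_right
        (comm2_le_pow_three.trans le_sup_left)))
        (((Submodule.span_singleton_le_iff_mem _ _).2 (h.pow_le (by omega) (by omega) hs)).trans
          le_sup_left)) _
    have hcN : c ∈ N * N := sub_mem (Submodule.mul_mem_mul hx hy) (Submodule.mul_mem_mul hy hx)
    have e1 := Submodule.finrank_mono hle
    have e2 := Submodule.finrank_add_le_finrank_add_finrank (N ^ 3 ⊔ Submodule.span k {c})
      (Submodule.span k {w})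
    have e3 := Submodule.finrank_add_le_finrank_add_finrank (N ^ 3) (Submodule.span k {c})
    have e4 := finrank_span_le_card (R := k) ({c} : Set R)
    have e5 := finrank_span_le_card (R := k) ({w} : Set R)
    simp only [Set.toFinset_singleton, Finset.card_singleton] at e4 e5
    have e6 := finrank_lt_sup_span hcK
    have e7 : w ∉ K2 ⊔ Submodule.span k {c} := by rwa [sup_comm]
    have e8 := finrank_lt_sup_span e7
    have e9 := Submodule.finrank_mono (sup_le (sup_le hK2N
      ((Submodule.span_singleton_le_iff_mem _ _).2 hcN))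
      ((Submodule.span_singleton_le_iff_mem _ _).2 hw))
    omega
  have hK1N : K1 ≤ N := ker_le.trans_eq (pow_one N)
  have hK1eq : N * N = K1 := by
    refine Submodule.eq_of_le_of_finrank_le hN2K1 ?_
    by_contra hlt
    obtain ⟨r, hr, hle⟩ := SmallBlock.exists_le_span_sup_one hK1N (by omega)
    obtain ⟨p, hp, x', hx', hxe⟩ := Submodule.mem_sup.1 (hle hx)
    obtain ⟨α, rfl⟩ := Submodule.mem_span_singleton.1 hp
    obtain ⟨p, hp, y', hy', hye⟩ := Submodule.mem_sup.1 (hle hy)
    obtain ⟨β, rfl⟩ := Submodule.mem_span_singleton.1 hp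
    refine hcK ?_
    have key : ∀ {u : R}, u ∈ K1 → ∀ {v : R}, v ∈ N → u * v - v * u ∈ K2 := fun hu _ hv =>
      sub_mem (h.ker_mul hu (mem_pow_one hv) rfl) (h.mul_ker (mem_pow_one hv) hu rfl)
    rw [hc, ← hxe, ← hye, show (α • r + x') * (β • r + y') - (β • r + y') * (α • r + x') =
      (x' * (β • r + y') - (β • r + y') * x') - (y' * (α • r) - α • r * y') by
      simp only [add_mul, mul_add, smul_mul_assoc, mul_smul_comm]; module]
    exact sub_mem (key hx' (add_mem (N.smul_mem β hr) (hK1N hy')))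
      (key hy' (N.smul_mem α hr))
  have hV : Module.finrank k (Layer1 N lam m) = 2 := by
    have := finrank_layer1_add (k := k) (N := N) (lam := lam) (m := m)
    have hf : Module.finrank k ↥(N * N) = Module.finrank k (ker N lam m 1) := by rw [hK1eq]
    omega
  have hQ : Module.finrank k (Layer2 N lam m) = 2 := by
    have h1 := finrank_layer2_add (k := k) (N := N) (lam := lam) (m := m)
    have hcN : c ∈ N * N := sub_mem (Submodule.mul_mem_mul hx hy) (Submodule.mul_mem_mul hy hx)
    have e6 := finrank_lt_sup_span hcK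
    have e7 : w ∉ K2 ⊔ Submodule.span k {c} := by rwa [sup_comm]
    have e8 := finrank_lt_sup_span e7
    have e9 := Submodule.finrank_mono (sup_le (sup_le hK2N
      ((Submodule.span_singleton_le_iff_mem _ _).2 hcN))
      ((Submodule.span_singleton_le_iff_mem _ _).2 hw))
    have e10 := Submodule.finrank_mono heq.ge
    have e11 : N * N ≤ K2 ⊔ Submodule.span k {c} ⊔ Submodule.span k {w} := by
      rw [← heq]
      exact sup_le_sup_right (sup_le (hTc.trans (sup_le le_sup_right (hcomm2K.trans le_sup_left)))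
        (((Submodule.span_singleton_le_iff_mem _ _).2 hsK).trans le_sup_left)) _
    have e12 := Submodule.finrank_mono e11
    have e2 := Submodule.finrank_add_le_finrank_add_finrank (K2 ⊔ Submodule.span k {c})
      (Submodule.span k {w})
    have e3 := Submodule.finrank_add_le_finrank_add_finrank K2 (Submodule.span k {c})
    have e4 := finrank_span_le_card (R := k) ({c} : Set R)
    have e5 := finrank_span_le_card (R := k) ({w} : Set R)
    simp only [Set.toFinset_singleton, Finset.card_singleton] at e4 e5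
    have hf : Module.finrank k ↥K2 = Module.finrank k (ker N lam m 2) := rfl
    omega
  obtain ⟨v, hv⟩ := exists_two_le_rank (mul₂ h) hV.ge hQ.ge (mul₂_left_inj h (by omega))
    (mul₂_right_inj h (by omega)) (mul₂_span h)
  obtain ⟨a, ha, rfl⟩ := exists_cls v
  have hfull := le_map_sup_of_range_eq_top h ha (Submodule.eq_top_of_finrank_eq
    (le_antisymm (Submodule.finrank_le _) (by omega)))
  obtain ⟨-, x', hx', y', hy', hxx, hyy, hgen'⟩ := exists_pair_of_full h (by omega)
    (by rw [hV]; norm_num) ha hfull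
    (h3.trans (sup_le_sup_left (h.pow_le_ker (by omega) (by omega)) _))
  rw [← hK2, ← hK2eq] at hxx hyy
  rw [← hK1, ← hK1eq] at hgen'
  exact alternating_false hx' hy' hxx hyy hgen' h hm h3

end CfsgLib.SmallBlock.Five
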